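import Cfsg.Agent.Fusion.PIndex.Step
import Cfsg.Agent.Fusion.PPowerIndex
import Cfsg.Agent.Solvable.PGroupBasic

/-!
Existence and uniqueness of the saturated subsystem of `p`-power index over a subgroup containing
the hyperfocal subgroup.
-/

set_option autoImplicit false
set_option linter.style.haveILetI false

open Cfsg Cfsg.FusionSystem

namespace CfsgLib.Fusion

universe u

variable {Ω : Type u} [Group Ω]

theorem hasPPowerIndexIn_self {S : Subgroup Ω} [Finite S] (F : FusionSystem S) (p : ℕ) :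
    F.HasPPowerIndexIn F p :=
  ⟨fun _ => subset_rfl, hyperfocalSubgroup_le_S p, fun P _ => Subgroup.map_subtype_le _⟩

theorem pResidual_map_le_of_subsystem {S T : Subgroup Ω} [Finite T] {E : FusionSystem T}
    {F : FusionSystem S} (h : E.IsSubsystemOf F) (p : ℕ) {P : Subgroup Ω} (hP : P ≤ T) :
    (Cfsg.pResidual p (E.autGroup P)).map (E.autGroup P).subtype ≤
      (Cfsg.pResidual p (F.autGroup P)).map (F.autGroup P).subtype := by
  haveI : Finite P := finite_of_le hP
  haveI : Finite (MulAut P) := finite_mulAut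
  have h1 := Subgroup.map_mono (f := (F.autGroup P).subtype)
    (CfsgLib.PResidual.map_pResidual_le (p := p) (Subgroup.inclusion (autGroup_mono' h P)))
  rwa [Subgroup.map_map, Subgroup.subtype_comp_inclusion] at h1

theorem hyperfocal_mono_subsystem {S T : Subgroup Ω} [Finite T] {E : FusionSystem T}
    {F : FusionSystem S} (hTS : T ≤ S) (h : E.IsSubsystemOf F) (p : ℕ) :
    E.hyperfocalSubgroup p ≤ F.hyperfocalSubgroup p := by
  refine (Subgroup.closure_le _).2 ?_
  rintro _ ⟨P, α, x, hP, hα, rfl⟩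
  obtain ⟨β, hβ, hβe⟩ := pResidual_map_le_of_subsystem h p hP ⟨α, hα, rfl⟩
  refine Subgroup.subset_closure ⟨P, β, x, hP.trans hTS, hβ, ?_⟩
  rw [show (β : MulAut P) = (α : MulAut P) from hβe]

theorem HasPPowerIndexIn_trans {S M T : Subgroup Ω} [Finite M] {F : FusionSystem S}
    {D : FusionSystem M} {E : FusionSystem T} {p : ℕ} (h₁ : D.HasPPowerIndexIn F p)
    (h₂ : E.HasPPowerIndexIn D p) (hMS : M ≤ S) (hTM : T ≤ M)
    (hT : F.hyperfocalSubgroup p ≤ T) : E.HasPPowerIndexIn F p := by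
  refine ⟨fun P φ hφ => h₁.1 P (h₂.1 P hφ), hT, fun P hP => ?_⟩
  haveI : Finite P := finite_of_le (hP.trans hTM)
  haveI : Finite (MulAut P) := finite_mulAut
  rw [Cfsg.pResidual, MonoidHom.map_closure, Subgroup.closure_le]
  rintro _ ⟨α, hα, rfl⟩
  have hαD : (α : MulAut P) ∈ D.autGroup P :=
    h₁.2.2 P (hP.trans hTM) ⟨α, Subgroup.subset_closure hα, rfl⟩
  refine h₂.2.2 P hP ⟨⟨α, hαD⟩, Subgroup.subset_closure ?_, rfl⟩
  show Nat.Coprime (orderOf (⟨(α : MulAut P), hαD⟩ : D.autGroup P)) p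
  rw [← Subgroup.orderOf_coe]
  show Nat.Coprime (orderOf (α : MulAut P)) p
  rw [Subgroup.orderOf_coe]
  exact hα

theorem exists_pPowerIndex_subsystem (p : ℕ) [Fact p.Prime] :
    ∀ {S : Subgroup Ω} [Finite S], IsPGroup p S → ∀ (F : FusionSystem S), F.IsSaturated p →
      ∀ T ≤ S, F.hyperfocalSubgroup p ≤ T →
        ∃ E : FusionSystem T, E.IsSaturated p ∧ E.HasPPowerIndexIn F p := by
  intro S
  induction hn : Nat.card S using Nat.strong_induction_on generalizing S with
  | _ n IH =>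
  subst hn
  intro _ hS F hF T hTS hT
  rcases hTS.eq_or_lt with rfl | hlt
  · exact ⟨F, hF, hasPPowerIndexIn_self F p⟩
  have hne : T.subgroupOf S ≠ ⊤ := fun h => hlt.not_ge (Subgroup.subgroupOf_eq_top.1 h)
  obtain ⟨N, hN, hTN⟩ := (eq_top_or_exists_le_coatom (T.subgroupOf S)).resolve_left hne
  obtain ⟨hNn, hNi⟩ := CfsgLib.PGroupBasic.coatom_normal_index hS hN
  have hMS : N.map S.subtype ≤ S := Subgroup.map_subtype_le N
  have hTM : T ≤ N.map S.subtype := fun x hx =>
    ⟨⟨x, hTS hx⟩, hTN (Subgroup.mem_subgroupOf.2 hx), rfl⟩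
  have hsub : (N.map S.subtype).subgroupOf S = N :=
    Subgroup.comap_map_eq_self_of_injective S.subtype_injective N
  obtain ⟨D, hD, hDF⟩ := exists_index_p_subsystem p hS hF hMS (by rwa [hsub])
    (by rwa [hsub]) (hT.trans hTM)
  haveI : Finite (N.map S.subtype : Subgroup Ω) := finite_of_le hMS
  have hcard : Nat.card (N.map S.subtype : Subgroup Ω) < Nat.card S := by
    refine lt_of_not_ge fun h => hN.1 ?_
    rw [← hsub, Subgroup.subgroupOf_eq_top, eq_of_le_of_card_le le_rfl hMS h]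
  obtain ⟨E, hE, hED⟩ := IH _ hcard rfl (isPGroup_of_le hS hMS) D hD T hTM
    ((hyperfocal_mono_subsystem hMS hDF.1 p).trans hT)
  exact ⟨E, hE, HasPPowerIndexIn_trans hDF hED hMS hTM hT⟩

end CfsgLib.Fusion
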