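import Cfsg.Agent.Fusion.PPowerIndex
import Cfsg.Agent.Fusion.Invariant
import Cfsg.Agent.Fusion.Tate

/-!
The saturated subsystem of `p`-power index over a normal subgroup containing the hyperfocal
subgroup is normal.
-/

set_option autoImplicit false
set_option linter.unusedSectionVars false
set_option linter.style.haveILetI false

open Cfsg Cfsg.FusionSystem

namespace CfsgLib.Fusion

universe u

variable {Ω : Type u} [Group Ω] {S T : Subgroup Ω} [Finite S] {F : FusionSystem S}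
  {E : FusionSystem T}

/-- Restriction of a coprime automorphism to an invariant subgroup of `T` lies in `E`. -/
theorem restrict_coprime_mem (p : ℕ) (hEi : E.HasPPowerIndexIn F p) {Y R : Subgroup Ω}
    (hY : Y ≤ S) (hR : R ≤ Y) (hRT : R ≤ T) {α : MulAut Y} (hα : α ∈ F.autGroup Y)
    (hcop : Nat.Coprime (orderOf α) p) (hinv : ∀ x : Y, (x : Ω) ∈ R → ((α x : Y) : Ω) ∈ R) :
    ∃ φ ∈ E.Hom R, ∀ (x : R), φ x = ((α ⟨x, hR x.2⟩ : Y) : Ω) := by
  haveI : Finite R := finite_of_le (hR.trans hY)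
  let f : R →* Ω := (Y.subtype.comp α.toMonoidHom).comp (Subgroup.inclusion hR)
  have hf : f ∈ F.Hom R := restrict_mem ((autGroup_carrier hY).1 hα) hR
  have hfr : f.range = R := by
    refine eq_of_le_of_card_le (hR.trans hY) ?_ (card_range hf).ge
    rintro _ ⟨x, rfl⟩
    exact hinv ⟨x, hR x.2⟩ x.2
  let a : MulAut R := autOfRange f (F.injective_of_mem hf) hfr
  have ha : a ∈ F.autGroup R := autOfRange_mem hf hfr
  have hpow : ∀ (n : ℕ) (x : R), (((a ^ n) x : R) : Ω) = (((α ^ n) ⟨x, hR x.2⟩ : Y) : Ω) := by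
    intro n
    induction n with
    | zero => intro x; rfl
    | succ n ih =>
      intro x
      rw [pow_succ', MulAut.mul_apply, pow_succ', MulAut.mul_apply]
      show ((α ⟨_, hR ((a ^ n) x).2⟩ : Y) : Ω) = _
      exact congrArg (fun z : Y => ((α z : Y) : Ω)) (Subtype.ext (ih x))
  have hord : orderOf a ∣ orderOf α := orderOf_dvd_of_pow_eq_one (MulEquiv.ext fun x =>
    Subtype.ext (by rw [hpow, pow_orderOf_eq_one]; rfl))
  have hmem : a ∈ E.autGroup R := by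
    refine hEi.2.2 R hRT ⟨⟨a, ha⟩, Subgroup.subset_closure ?_, rfl⟩
    show Nat.Coprime (orderOf (⟨a, ha⟩ : F.autGroup R)) p
    rw [← Subgroup.orderOf_coe]
    exact Nat.Coprime.coprime_dvd_left hord hcop
  exact ⟨_, (autGroup_carrier hRT).1 hmem, fun x => rfl⟩

/-- A subsystem of `p`-power index is stable under the automorphisms of `T`. -/
theorem pPowerIndex_conj (p : ℕ) [Fact p.Prime] (hS : IsPGroup p S) (hTS : T ≤ S)
    (hEs : E.IsSaturated p) (hEi : E.HasPPowerIndexIn F p) {α : MulAut T}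
    (hα : α ∈ F.autGroup T) {P : Subgroup Ω} (hPT : P ≤ T) {φ : P →* Ω} (hφ : φ ∈ E.Hom P) :
    ∃ χ ∈ E.Hom ((P.subgroupOf T).map (T.subtype.comp α.toMonoidHom)),
      ∀ (x : P) (hφx : φ x ∈ T)
        (hαx : ((α ⟨x, hPT x.2⟩ : T) : Ω) ∈ (P.subgroupOf T).map (T.subtype.comp α.toMonoidHom)),
        χ ⟨(α ⟨x, hPT x.2⟩ : T), hαx⟩ = ((α ⟨φ x, hφx⟩ : T) : Ω) := by
  haveI : Finite T := finite_of_le hTS
  let im : Subgroup Ω → Subgroup Ω := fun U => (U.subgroupOf T).map (T.subtype.comp α.toMonoidHom)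
  have hmem : ∀ (U : Subgroup Ω) (x : T), (x : Ω) ∈ U → ((α x : T) : Ω) ∈ im U := fun U x hx =>
    ⟨x, hx, rfl⟩
  have himT : ∀ U, im U ≤ T := fun U => by
    rintro _ ⟨x, -, rfl⟩
    exact (α x).2
  -- the pullback of `E` along `α`
  let E' : FusionSystem T :=
    { Hom := fun U => {φ | ∃ (hU : U ≤ T) (hφT : ∀ x : U, φ x ∈ T), ∃ χ ∈ E.Hom (im U),
        ∀ x : U, χ ⟨(α ⟨x, hU x.2⟩ : T), hmem U ⟨x, hU x.2⟩ x.2⟩ = ((α ⟨φ x, hφT x⟩ : T) : Ω)}
      le_of_mem := fun h => ⟨h.1, h.2.1⟩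
      injective_of_mem := fun {U φ} ⟨hU, hφT, χ, hχ, h⟩ a b hab => by
        have h1 := h a
        rw [show (⟨φ a, hφT a⟩ : T) = ⟨φ b, hφT b⟩ from Subtype.ext hab, ← h b] at h1
        have h2 := congrArg Subtype.val (E.injective_of_mem hχ h1)
        exact Subtype.ext (congrArg (fun z : T => (z : Ω)) (α.injective (Subtype.ext h2)))
      conj_mem := fun {U t} hU ht => by
        refine ⟨hU, fun x => mul_mem (mul_mem ht (hU x.2)) (inv_mem ht), conjHom _ (α ⟨t, ht⟩ : T),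
          E.conj_mem (himT U) (α _).2, fun x => ?_⟩
        show ((α ⟨t, ht⟩ : T) : Ω) * ((α ⟨x, hU x.2⟩ : T) : Ω) * ((α ⟨t, ht⟩ : T) : Ω)⁻¹ = _
        rw [← Subgroup.coe_inv, ← Subgroup.coe_mul, ← Subgroup.coe_mul, ← map_inv, ← map_mul,
          ← map_mul]
        rfl
      comp_mem := fun {U V φ ψ} hφ hψ h => by
        obtain ⟨hU, hφT, χ, hχ, hχe⟩ := hφ
        obtain ⟨hV, hψT, ξ, hξ, hξe⟩ := hψ
        have hm : ∀ z : im U, χ z ∈ im V := by
          rintro ⟨_, y, hy, rfl⟩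
          exact (hχe ⟨y, hy⟩).symm ▸ hmem V ⟨φ ⟨y, hy⟩, hφT _⟩ (h _)
        refine ⟨hU, fun x => hψT _, _, E.comp_mem hχ hξ hm, fun x => ?_⟩
        show ξ ⟨χ _, _⟩ = ((α ⟨ψ ⟨φ x, h x⟩, _⟩ : T) : Ω)
        rw [← hξe ⟨φ x, h x⟩]
        exact apply_congr ξ (hχe x)
      inv_mem := fun {U φ} hφ => by
        obtain ⟨hU, hφT, χ, hχ, hχe⟩ := hφ
        have hφi : Function.Injective φ := fun a b hab => by
          have h1 := hχe a
          rw [show (⟨φ a, hφT a⟩ : T) = ⟨φ b, hφT b⟩ from Subtype.ext hab, ← hχe b] at h1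
          exact Subtype.ext (congrArg (fun z : T => (z : Ω))
            (α.injective (Subtype.ext (congrArg (fun z : im U => (z : Ω))
              (E.injective_of_mem hχ h1)))))
        let ψ : φ.range →* Ω := U.subtype.comp (MonoidHom.ofInjective hφi).symm.toMonoidHom
        have hψ1 : ∀ x : U, ψ ⟨φ x, ⟨x, rfl⟩⟩ = (x : Ω) := fun x =>
          congrArg Subtype.val ((MonoidHom.ofInjective hφi).symm_apply_apply x)
        have hr : χ.range = im φ.range := by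
          ext z
          constructor
          · rintro ⟨⟨_, y, hy, rfl⟩, rfl⟩
            exact (hχe ⟨y, hy⟩).symm ▸ hmem _ ⟨φ ⟨y, hy⟩, hφT _⟩ ⟨_, rfl⟩
          · rintro ⟨y, ⟨x, hx⟩, rfl⟩
            exact ⟨⟨_, hmem U ⟨x, hU x.2⟩ x.2⟩, (hχe x).trans
              (congrArg (fun w : T => ((α w : T) : Ω)) (Subtype.ext hx))⟩
        obtain ⟨ξ, hξ, -, hξ1, -⟩ := exists_inv hχ hr
        refine ⟨ψ, ⟨fun y ⟨x, hx⟩ => hx ▸ hφT x, fun y => hU (SetLike.coe_mem _), ξ, hξ, ?_⟩, hψ1⟩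
        rintro ⟨_, x, rfl⟩
        refine ((apply_congr ξ (hχe x).symm).trans (hξ1 ⟨_, hmem U ⟨x, hU x.2⟩ x.2⟩
          (hr.le ⟨_, rfl⟩))).trans ?_
        exact congrArg (fun w : T => ((α w : T) : Ω)) (Subtype.ext (hψ1 x).symm) }
  have hE' : E'.HasPPowerIndexIn F p := by
    refine ⟨fun U φ ⟨hU, hφT, χ, hχ, hχe⟩ => ?_, hEi.2.1, fun U hU => ?_⟩
    · have hφ₁ : ∀ x : U, (T.subtype.comp α.toMonoidHom).comp (Subgroup.inclusion hU) x ∈ im U :=
        fun x => hmem U ⟨x, hU x.2⟩ x.2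
      have hαF := (autGroup_carrier hTS).1 hα
      have hαi : (T.subtype.comp (α⁻¹ : MulAut T).toMonoidHom) ∈ F.Hom T :=
        (autGroup_carrier hTS).1 (inv_mem hα)
      have h2 := F.comp_mem (restrict_mem hαF hU) (hEi.1 _ hχ) hφ₁
      have h3 := F.comp_mem h2 hαi fun x => (hχe x).symm ▸ (α ⟨φ x, hφT x⟩).2
      refine restrict_mem_of_eq h3 le_rfl fun x => ?_
      have e1 : (⟨_, (hχe x).symm ▸ (α ⟨φ x, hφT x⟩).2⟩ : T) = α ⟨φ x, hφT x⟩ :=
        Subtype.ext (hχe x)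
      show φ x = ((α⁻¹ ⟨χ _, _⟩ : T) : Ω)
      refine Eq.trans ?_ (congrArg (fun w : T => ((α⁻¹ w : T) : Ω)) e1).symm
      rw [MulAut.inv_apply_self]
    · haveI : Finite U := finite_of_le (hU.trans hTS)
      haveI : Finite (MulAut U) := finite_mulAut
      rw [Cfsg.pResidual, MonoidHom.map_closure, Subgroup.closure_le]
      rintro _ ⟨b, hb, rfl⟩
      have hb' := (autGroup_carrier (hU.trans hTS)).1 b.2
      let e : U ≃* im U := (Subgroup.subgroupOfEquivOfLe hU).symm.trans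
        ((U.subgroupOf T).equivMapOfInjective (T.subtype.comp α.toMonoidHom)
          (T.subtype_injective.comp α.injective))
      have he : ∀ x : U, ((e x : im U) : Ω) = ((α ⟨x, hU x.2⟩ : T) : Ω) := fun x => rfl
      have hbF : MulAut.congr e (b : MulAut U) ∈ F.autGroup (im U) :=
        pow_mem_autGroup_iso (hU.trans hTS) (restrict_mem ((autGroup_carrier hTS).1 hα) hU) e he b.2
      have hbE : MulAut.congr e (b : MulAut U) ∈ E.autGroup (im U) := by
        refine hEi.2.2 _ (himT U) ⟨⟨_, hbF⟩, Subgroup.subset_closure ?_, rfl⟩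
        show Nat.Coprime (orderOf (⟨_, hbF⟩ : F.autGroup (im U))) p
        rw [← Subgroup.orderOf_coe]
        show Nat.Coprime (orderOf ((MulAut.congr e).toMonoidHom (b : MulAut U))) p
        rw [orderOf_injective _ (MulAut.congr e).injective, Subgroup.orderOf_coe]
        exact hb
      refine (autGroup_carrier (S := T) hU).2 ⟨hU, fun x => hU (SetLike.coe_mem _), _,
        (autGroup_carrier (himT U)).1 hbE, fun x => ?_⟩
      show ((e ((b : MulAut U) (e.symm _)) : im U) : Ω) = _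
      rw [show (⟨_, hmem U ⟨x, hU x.2⟩ x.2⟩ : im U) = e x from Subtype.ext (he x).symm,
        e.symm_apply_apply, he]
      rfl
  obtain ⟨_, _, χ, hχ, hχe⟩ := CfsgLib.PPowerIndex.hom_subset_of_pPowerIndex p
    (isPGroup_of_le hS hTS) le_rfl hEi.1 hEs hE' P hφ
  exact ⟨χ, hχ, fun x hφx hαx => hχe x⟩

/-- Every map between subgroups of `T` is conjugation by an element of `S` after a map of `E`. -/
theorem pPowerIndex_frattini (p : ℕ) [Fact p.Prime] (hS : IsPGroup p S) (hF : F.IsSaturated p)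
    (hTS : T ≤ S) (hTn : S ≤ Subgroup.normalizer (T : Set Ω)) (hT : F.hyperfocalSubgroup p ≤ T)
    (hEs : E.IsSaturated p) (hEi : E.HasPPowerIndexIn F p) {P : Subgroup Ω} (hP : P ≤ T)
    {φ : P →* Ω} (hφ : φ ∈ F.Hom P) :
    ∃ s ∈ S, ∃ φ₀ ∈ E.Hom P, ∀ x : P, φ x = s * φ₀ x * s⁻¹ := by
  have hconj : ∀ {s : Ω}, s ∈ S → ∀ {U : Subgroup Ω} {ξ : U →* Ω}, ξ ∈ E.Hom U →
      ∀ {V : Subgroup Ω}, (∀ y : V, s * (y : Ω) * s⁻¹ ∈ U) →
        ∃ η ∈ E.Hom V, ∀ (y : V) (h : s * (y : Ω) * s⁻¹ ∈ U), η y = s⁻¹ * ξ ⟨_, h⟩ * s := by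
    intro s hs U ξ hξ V hVU
    have hs' : (⟨s⁻¹, S.inv_mem hs, hTn (S.inv_mem hs)⟩ :
        ↥(S ⊓ Subgroup.normalizer (T : Set Ω))) ∈ (⊤ : Subgroup _) := trivial
    let α : MulAut T := conjAut S T ⟨s⁻¹, S.inv_mem hs, hTn (S.inv_mem hs)⟩
    have hα : α ∈ F.autGroup T :=
      autInducedBy_le_autGroup hTS (mem_autInducedBy.2 ⟨s⁻¹, S.inv_mem hs, fun _ => rfl⟩)
    have hUT : U ≤ T := le_of_mem_hom hξ
    obtain ⟨χ, hχ, hχe⟩ := pPowerIndex_conj p hS hTS hEs hEi hα hUT hξ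
    have hVi : V ≤ (U.subgroupOf T).map (T.subtype.comp α.toMonoidHom) := fun y hy =>
      ⟨⟨_, hUT (hVU ⟨y, hy⟩)⟩, hVU ⟨y, hy⟩, by
        show s⁻¹ * (s * y * s⁻¹) * s⁻¹⁻¹ = y
        group⟩
    refine ⟨_, restrict_mem hχ hVi, fun y h => ?_⟩
    have hα' : ((α ⟨_, hUT h⟩ : T) : Ω) = (y : Ω) := by
      show s⁻¹ * (s * (y : Ω) * s⁻¹) * s⁻¹⁻¹ = (y : Ω)
      group
    refine Eq.trans ?_ ((hχe ⟨_, h⟩ (apply_mem_S hξ _) (hα'.symm ▸ hVi y.2)).trans ?_)
    · exact apply_congr χ hα'.symm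
    · show s⁻¹ * ξ ⟨_, h⟩ * s⁻¹⁻¹ = _
      rw [inv_inv]
  let D : FusionSystem S :=
    { Hom := fun U => {φ | φ ∈ F.Hom U ∧ ∀ (Q : Subgroup Ω) (hQU : Q ≤ U), Q ≤ T →
        ∃ s ∈ S, ∃ φ₀ ∈ E.Hom Q, ∀ x : Q, φ ⟨x, hQU x.2⟩ = s * φ₀ x * s⁻¹}
      le_of_mem := fun h => F.le_of_mem h.1
      injective_of_mem := fun h => F.injective_of_mem h.1
      conj_mem := fun {U g} hU hg => ⟨F.conj_mem hU hg, fun Q _ hQT =>
        ⟨g, hg, Q.subtype, subtype_mem hQT, fun _ => rfl⟩⟩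
      comp_mem := fun {U V φ ψ} hφ hψ h => by
        refine ⟨F.comp_mem hφ.1 hψ.1 h, fun Q hQU hQT => ?_⟩
        obtain ⟨s, hs, φ₀, hφ₀, he⟩ := hφ.2 Q hQU hQT
        have hQ'V : (Q.subgroupOf U).map φ ≤ V := by
          rintro _ ⟨x, -, rfl⟩; exact h x
        have hQ'T : (Q.subgroupOf U).map φ ≤ T := by
          rintro _ ⟨x, hx, rfl⟩
          rw [he ⟨x, hx⟩]
          exact (Subgroup.mem_normalizer_iff.1 (hTn hs) _).1 (apply_mem_S hφ₀ _)
        obtain ⟨t, ht, ψ₀, hψ₀, hte⟩ := hψ.2 _ hQ'V hQ'T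
        have hin : ∀ z : φ₀.range, s * (z : Ω) * s⁻¹ ∈ (Q.subgroupOf U).map φ := by
          rintro ⟨_, x, rfl⟩
          exact ⟨⟨x, hQU x.2⟩, x.2, he x⟩
        obtain ⟨η, hη, hηe⟩ := hconj hs hψ₀ hin
        refine ⟨t * s, mul_mem ht hs, _, E.comp_mem hφ₀ hη (fun x => ⟨x, rfl⟩), fun x => ?_⟩
        show ψ ⟨φ ⟨x, hQU x.2⟩, h _⟩ = t * s * η ⟨φ₀ x, x, rfl⟩ * (t * s)⁻¹
        rw [hηe ⟨φ₀ x, x, rfl⟩ (hin _)]
        have e2 : ψ ⟨φ ⟨x, hQU x.2⟩, h _⟩ = ψ ⟨s * φ₀ x * s⁻¹, hQ'V (hin ⟨φ₀ x, x, rfl⟩)⟩ :=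
          apply_congr ψ (he x)
        rw [e2]
        refine (hte ⟨_, hin ⟨φ₀ x, x, rfl⟩⟩).trans ?_
        group
      inv_mem := fun {U φ} hφ => by
        obtain ⟨ψ, hψ, hψ1⟩ := F.inv_mem hφ.1
        refine ⟨ψ, ⟨hψ, fun Q hQ hQT => ?_⟩, hψ1⟩
        have hpre : ∀ y : Q, ∃ x : U, φ x = (y : Ω) := fun y => hQ y.2
        let Q₀ : Subgroup Ω := (Q.subgroupOf φ.range).map ψ
        have hQ₀U : Q₀ ≤ U := by
          rintro _ ⟨⟨_, x, rfl⟩, -, rfl⟩
          rw [hψ1]; exact x.2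
        have hQ₀T : Q₀ ≤ T := by
          rintro _ ⟨⟨_, x, rfl⟩, hx, rfl⟩
          obtain ⟨s, hs, hsx⟩ := exists_inner_mod p hS hF hTn hT hψ
          change φ x ∈ Q at hx
          have h1 := mul_mem ((Subgroup.mem_normalizer_iff.1 (hTn hs) _).1 (hQT hx))
            (hsx ⟨φ x, x, rfl⟩)
          simpa only [mul_inv_cancel_left] using h1
        obtain ⟨s, hs, φ₀, hφ₀, he⟩ := hφ.2 Q₀ hQ₀U hQ₀T
        have hr : φ₀.range = φ₀.range := rfl
        obtain ⟨ξ, hξ, -, hξ1, -⟩ := exists_inv hφ₀ hr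
        have hin : ∀ y : Q, s⁻¹ * (y : Ω) * s⁻¹⁻¹ ∈ φ₀.range := fun y => by
          obtain ⟨x, hx⟩ := hQ y.2
          have hxQ₀ : (x : Ω) ∈ Q₀ := ⟨⟨φ x, x, rfl⟩, show φ x ∈ Q from Set.mem_of_eq_of_mem hx y.2, hψ1 x⟩
          refine ⟨⟨x, hxQ₀⟩, ?_⟩
          rw [← hx, he ⟨x, hxQ₀⟩]
          group
        obtain ⟨η, hη, hηe⟩ := hconj (S.inv_mem hs) hξ hin
        refine ⟨s⁻¹, S.inv_mem hs, η, hη, fun y => ?_⟩
        rw [hηe y (hin y)]
        obtain ⟨x, hx⟩ := hQ y.2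
        have hxQ₀ : (x : Ω) ∈ Q₀ := ⟨⟨φ x, x, rfl⟩, show φ x ∈ Q from Set.mem_of_eq_of_mem hx y.2, hψ1 x⟩
        have e1 : ξ ⟨_, hin y⟩ = (x : Ω) := by
          refine Eq.trans (apply_congr ξ ?_) (hξ1 ⟨x, hxQ₀⟩ ⟨_, rfl⟩)
          show s⁻¹ * (y : Ω) * s⁻¹⁻¹ = φ₀ ⟨x, hxQ₀⟩
          rw [← hx, he ⟨x, hxQ₀⟩]
          group
        rw [e1, apply_congr ψ (x := ⟨(y : Ω), hQ y.2⟩) (y := ⟨φ x, x, rfl⟩) hx.symm]
        refine (hψ1 x).trans ?_
        group }
  have hle : F ≤ D := alperin_saturated p hS hF D fun Y hY => by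
    have hYS : Y ≤ S := by
      rcases hY with rfl | h
      exacts [le_rfl, h.1.1]
    refine autGroup_le_of_pResidual p hS hF hY (autInducedBy_le_autGroup hYS) ?_
    intro α hα
    induction hα using Subgroup.closure_induction with
    | one => exact one_mem _
    | mul a b _ _ ha hb => exact mul_mem ha hb
    | inv a _ ha => exact inv_mem ha
    | mem b hb =>
      have hbF := (autGroup_carrier hYS).1 b.2
      refine (autGroup_carrier hYS).2 ⟨hbF, fun Q hQY hQT => ?_⟩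
      have hinv : ∀ x : Y, (x : Ω) ∈ Y ⊓ T → (((b : MulAut Y) x : Y) : Ω) ∈ Y ⊓ T := by
        intro x hx
        refine ⟨SetLike.coe_mem _, ?_⟩
        have h1 := mul_mem hx.2 (hT (Subgroup.subset_closure
          ⟨Y, b, x, hYS, Subgroup.subset_closure hb, rfl⟩))
        rwa [mul_inv_cancel_left] at h1
      obtain ⟨φ₁, hφ₁, he₁⟩ := restrict_coprime_mem p hEi (R := Y ⊓ T) hYS inf_le_left inf_le_right
        b.2 (by rw [Subgroup.orderOf_coe]; exact hb) hinv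
      refine ⟨1, one_mem _, _, restrict_mem hφ₁ (le_inf hQY hQT), fun x => ?_⟩
      rw [one_mul, inv_one, mul_one]
      exact (he₁ ⟨x, le_inf hQY hQT x.2⟩).symm
  exact (hle P hφ).2 P le_rfl hP

/-- The extension condition. -/
theorem pPowerIndex_extension (p : ℕ) [Fact p.Prime] (hS : IsPGroup p S) (hF : F.IsSaturated p)
    (hTS : T ≤ S) (hTn : S ≤ Subgroup.normalizer (T : Set Ω)) (hT : F.hyperfocalSubgroup p ≤ T)
    (hEs : E.IsSaturated p) (hEF : E.IsSubsystemOf F) (hTc : F.StronglyClosed T)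
    {α : MulAut T} (hα : α ∈ E.autGroup T) :
    ∃ β ∈ F.autGroup (T ⊔ centralizerIn S T),
      (∀ x : T, ((β (Subgroup.inclusion le_sup_left x) : ↥(T ⊔ centralizerIn S T)) : Ω) =
        ((α x : T) : Ω)) ∧
      ∀ c : ↥(T ⊔ centralizerIn S T), (c : Ω) ∈ centralizerIn S T →
        (c : Ω)⁻¹ * ((β c : ↥(T ⊔ centralizerIn S T)) : Ω) ∈
          T ⊓ Subgroup.centralizer (T : Set Ω) := by
  let U : Subgroup Ω := T ⊔ centralizerIn S T
  have hUS : U ≤ S := sup_le hTS (centralizerIn_le_S T)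
  haveI : Finite T := finite_of_le hTS
  haveI : Finite U := finite_of_le hUS
  haveI : Finite (MulAut T) := finite_mulAut
  haveI : Finite (MulAut U) := finite_mulAut
  have hcent : ∀ {b : MulAut U} {a : MulAut T},
      (∀ x : T, ((b (Subgroup.inclusion le_sup_left x) : U) : Ω) = ((a x : T) : Ω)) →
      ∀ c : U, (c : Ω) ∈ centralizerIn S T → ((b c : U) : Ω) ∈ centralizerIn S T := by
    intro b a hba c hc
    refine mem_centralizerIn.2 ⟨hUS (SetLike.coe_mem _), fun t ht => ?_⟩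
    have h0 : t = ((b (Subgroup.inclusion le_sup_left (a⁻¹ ⟨t, ht⟩)) : U) : Ω) := by
      rw [hba, MulAut.apply_inv_self]
    rw [h0, ← Subgroup.coe_mul, ← Subgroup.coe_mul, ← map_mul, ← map_mul]
    exact congrArg (fun z : U => ((b z : U) : Ω))
      (Subtype.ext (hc.2 _ (a⁻¹ ⟨t, ht⟩).2))
  let G : Subgroup (MulAut T) :=
    { carrier := {a | ∃ b ∈ F.autGroup U,
        (∀ x : T, ((b (Subgroup.inclusion le_sup_left x) : U) : Ω) = ((a x : T) : Ω)) ∧
        ∀ c : U, (c : Ω) ∈ centralizerIn S T →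
          (c : Ω)⁻¹ * ((b c : U) : Ω) ∈ T ⊓ Subgroup.centralizer (T : Set Ω)}
      one_mem' := ⟨1, one_mem _, fun _ => rfl, fun c _ => by simp⟩
      mul_mem' := fun {a a'} ⟨b, hb, hba, hbc⟩ ⟨b', hb', hba', hbc'⟩ => by
        refine ⟨b * b', mul_mem hb hb', fun x => ?_, fun c hc => ?_⟩
        · show ((b (b' _) : U) : Ω) = _
          rw [show b' (Subgroup.inclusion le_sup_left x) = Subgroup.inclusion le_sup_left (a' x)
            from Subtype.ext (hba' x), hba]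
          rfl
        · have h1 := mul_mem (hbc' c hc) (hbc (b' c) (hcent hba' c hc))
          rwa [mul_assoc, mul_inv_cancel_left] at h1
      inv_mem' := fun {a} ⟨b, hb, hba, hbc⟩ => by
        have hba' : ∀ x : T, ((b⁻¹ (Subgroup.inclusion le_sup_left x) : U) : Ω) =
            ((a⁻¹ x : T) : Ω) := fun x => by
          have h1 : b (Subgroup.inclusion le_sup_left (a⁻¹ x)) = Subgroup.inclusion le_sup_left x :=
            Subtype.ext (by rw [hba, MulAut.apply_inv_self]; rfl)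
          rw [← h1, MulAut.inv_apply_self]
          rfl
        refine ⟨b⁻¹, inv_mem hb, hba', fun c hc => ?_⟩
        have h1 := inv_mem (hbc (b⁻¹ c) (hcent hba' c hc))
        rwa [MulAut.apply_inv_self, mul_inv_rev, inv_inv] at h1 }
  suffices hle : E.autGroup T ≤ G by exact hle hα
  have hTfn : F.IsFullyNormalized T := by
    refine ⟨hTS, fun Q hQ => card_le_of_le (normalizerIn_le_S T) fun g hg => ?_⟩
    exact ⟨hg.1, hTn hg.1⟩
  refine autGroup_le_of_pResidual p (isPGroup_of_le hS hTS) hEs (Or.inl rfl) ?_ ?_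
  · intro a ha
    obtain ⟨t, ht, hte⟩ := mem_autInducedBy.1 ha
    have htN : t ∈ normalizerIn S U :=
      ⟨hTS ht, Subgroup.le_normalizer (Subgroup.mem_sup_left ht)⟩
    refine ⟨conjAut S U ⟨t, htN⟩,
      autInducedBy_le_autGroup hUS (mem_autInducedBy.2 ⟨t, hTS ht, fun _ => rfl⟩),
      fun x => (hte x).symm, fun c hc => ?_⟩
    show (c : Ω)⁻¹ * (t * (c : Ω) * t⁻¹) ∈ _
    rw [hc.2 t ht]
    simp
  intro a ha
  induction ha using Subgroup.closure_induction with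
  | one => exact one_mem _
  | mul a b _ _ ha hb => exact mul_mem ha hb
  | inv a _ ha => exact inv_mem ha
  | mem a ha =>
    have haF : (a : MulAut T) ∈ F.autGroup T := autGroup_mono' hEF T a.2
    have hφ := (autGroup_carrier hTS).1 haF
    have hr := range_subtype_comp (a : MulAut T)
    obtain ⟨ψ, hψ, hψe⟩ := receptive_extend (good_of_fullyNormalized p hS hF hTfn).2 hφ hr
      (N := U) (sup_le (le_extender hφ) (centralizerIn_le_extender T _))
    have hψU : ψ.range = U := by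
      refine eq_of_le_of_card_le hUS ?_ (card_range hψ).ge
      have hmem : (⊤ : Subgroup U) ≤ U.comap ψ := by
        have : ((T.subgroupOf U) ⊔ ((centralizerIn S T).subgroupOf U)) = ⊤ := by
          rw [← Subgroup.subgroupOf_sup le_sup_left le_sup_right, Subgroup.subgroupOf_self]
        rw [← this]
        refine sup_le (fun x hx => ?_) fun x hx => ?_
        · exact Subgroup.mem_sup_left (map_mem_of_stronglyClosed hTc hψ hx)
        · have h1 := map_mem_centralizerIn hψ (P := T) le_sup_left hx x.2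
          rw [map_eq_range_of_eq le_sup_left hψe, hr] at h1
          exact Subgroup.mem_sup_right h1
      rintro _ ⟨x, rfl⟩
      exact hmem (Subgroup.mem_top x)
    let b : MulAut U := autOfRange ψ (F.injective_of_mem hψ) hψU
    have hb : b ∈ F.autGroup U := autOfRange_mem hψ hψU
    have hba : ∀ (n : ℕ) (x : T), (((b ^ n) (Subgroup.inclusion le_sup_left x) : U) : Ω) =
        ((((a : MulAut T) ^ n) x : T) : Ω) := by
      intro n
      induction n with
      | zero => intro x; rfl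
      | succ n ih =>
        intro x
        rw [pow_succ', MulAut.mul_apply, pow_succ', MulAut.mul_apply]
        show ψ _ = _
        refine (apply_congr ψ (y := ⟨_, Subgroup.mem_sup_left
          (((a : MulAut T) ^ n) x).2⟩) (ih x)).trans ?_
        exact hψe _ (((a : MulAut T) ^ n) x).2 _
    obtain ⟨e, m, hm, he⟩ := Nat.exists_eq_pow_mul_and_not_dvd (orderOf_pos b).ne' p
      (Fact.out : p.Prime).ne_one
    have hcop : Nat.Coprime (orderOf (a : MulAut T)) (p ^ e) := by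
      rw [Subgroup.orderOf_coe]
      exact Nat.Coprime.pow_right e ha
    obtain ⟨k, hk1, hk0⟩ := Nat.chineseRemainder hcop 1 0
    have hka : (a : MulAut T) ^ k = a := pow_eq_self_of_modEq (pow_orderOf_eq_one _) hk1
    have hbm : (b ^ k) ^ m = 1 := by
      rw [← pow_mul]
      refine orderOf_dvd_iff_pow_eq_one.1 ?_
      rw [he]
      exact mul_dvd_mul_right (Nat.modEq_zero_iff_dvd.1 hk0) m
    refine ⟨b ^ k, pow_mem hb k, fun x => by rw [hba, hka], fun c hc => ⟨hT ?_, ?_⟩⟩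
    · refine Subgroup.subset_closure ⟨U, ⟨b ^ k, pow_mem hb k⟩, c, hUS,
        Subgroup.subset_closure ?_, rfl⟩
      show Nat.Coprime (orderOf (⟨b ^ k, pow_mem hb k⟩ : F.autGroup U)) p
      rw [← Subgroup.orderOf_coe]
      exact Nat.Coprime.coprime_dvd_left (orderOf_dvd_of_pow_eq_one hbm)
        ((Fact.out : p.Prime).coprime_iff_not_dvd.2 hm).symm
    · exact mul_mem (Subgroup.inv_mem _ hc.2)
        (hcent (a := (a : MulAut T) ^ k) (fun x => hba k x) c hc).2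

/-- A saturated subsystem of `p`-power index over a normal subgroup is normal. -/
theorem pPowerIndex_normal (p : ℕ) [Fact p.Prime] (hS : IsPGroup p S) (hF : F.IsSaturated p)
    (hTS : T ≤ S) (hTn : S ≤ Subgroup.normalizer (T : Set Ω)) (hT : F.hyperfocalSubgroup p ≤ T)
    (hEs : E.IsSaturated p) (hEi : E.HasPPowerIndexIn F p) : E.IsNormalIn F p := by
  have hTc : F.StronglyClosed T := ⟨hTS, fun R hR φ hφ x => by
    obtain ⟨s, hs, hsx⟩ := exists_inner_mod p hS hF hTn hT hφ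
    have h1 := mul_mem ((Subgroup.mem_normalizer_iff.1 (hTn hs) _).1 (hR x.2)) (hsx x)
    simpa only [mul_inv_cancel_left] using h1⟩
  refine ⟨⟨hEs, hF, hEi.1, hTc, fun P hPT φ hφ α hα => pPowerIndex_conj p hS hTS hEs hEi hα hPT hφ,
    fun P hPT φ hφ => ?_⟩, fun α hα => pPowerIndex_extension p hS hF hTS hTn hT hEs hEi.1 hTc hα⟩
  obtain ⟨s, hs, φ₀, hφ₀, he⟩ := pPowerIndex_frattini p hS hF hTS hTn hT hEs hEi hPT hφ
  exact ⟨conjAut S T ⟨s, hs, hTn hs⟩,
    autInducedBy_le_autGroup hTS (mem_autInducedBy.2 ⟨s, hs, fun _ => rfl⟩), φ₀, hφ₀,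
    fun x hx => he x⟩

end CfsgLib.Fusion
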