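import Cfsg.Agent.Fusion.ParkRealize

/-!
A stable biset with all graphs occurring and degree prime to `p`, and two product lemmas for
functions on finite sets with actions.
-/

set_option autoImplicit false
set_option linter.unusedSectionVars false

open Cfsg Cfsg.FusionSystem

namespace CfsgLib.Fusion

universe u

variable {Ω : Type u} [Group Ω] {S : Subgroup Ω} [Finite S] {F : FusionSystem S}

/-- Nonnegative coefficients, positive on every graph, of degree prime to `p`, with stable marks. -/
theorem exists_positive_biset {p : ℕ} [Fact p.Prime] (hS : IsPGroup p S) (hF : F.IsSaturated p) :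
    ∃ c : Subgroup (S × S) → ℤ, (∀ H, 0 ≤ c H) ∧ (∀ H, c H ≠ 0 → IsGraph F H) ∧
      (∀ H, IsGraph F H → 0 < c H) ∧ ¬ (p : ℤ) ∣ degree c ∧
      ∀ H H' : Subgroup (S × S), IsGraph F H → IsGraph F H' → graphDom H = graphDom H' →
        mark c H = mark c H' := by
  classical
  have : Fintype (Subgroup (S × S)) := Fintype.ofFinite _
  obtain ⟨c, hsupp, hdeg, hst⟩ := exists_stable_biset hS hF
  choose d hd0 hd1 hds hdst using
    fun H₁ : {H : Subgroup (S × S) // IsGraph F H} => CfsgLib.Park.exists_coeff F H₁.1 H₁.2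
  have : Fintype {H : Subgroup (S × S) // IsGraph F H} := Fintype.ofFinite _
  let e : Subgroup (S × S) → ℤ := fun H => ∑ H₁, d H₁ H
  have hesupp : ∀ H, e H ≠ 0 → IsGraph F H := fun H h => by
    obtain ⟨H₁, -, h1⟩ := Finset.exists_ne_zero_of_sum_ne_zero h
    exact hds H₁ H h1
  have he1 : ∀ H, IsGraph F H → 1 ≤ e H := fun H hH => by
    have h1 : d ⟨H, hH⟩ H ≤ e H :=
      Finset.single_le_sum (f := fun H₁ => d H₁ H) (fun H₁ _ => hd0 H₁ H) (Finset.mem_univ _)
    have h2 : 0 < d ⟨H, hH⟩ H := hd1 ⟨H, hH⟩
    omega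
  have hemark : ∀ K, mark e K = ∑ H₁, mark (d H₁) K := fun K => by
    simp only [mark, finsum_eq_sum_of_fintype, e, Finset.sum_mul]
    exact Finset.sum_comm
  have hp : (1 : ℤ) ≤ p := by exact_mod_cast (Fact.out : p.Prime).pos
  let M : ℤ := 1 + ∑ H, |c H|
  have hM : ∀ H, |c H| < M := fun H => by
    have h1 := Finset.single_le_sum (f := fun H => |c H|) (fun H _ => abs_nonneg (c H))
      (Finset.mem_univ H)
    show |c H| < 1 + ∑ H, |c H|
    omega
  let c' : Subgroup (S × S) → ℤ := c + fun H => (p : ℤ) * M * e H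
  have hpos : ∀ H, IsGraph F H → 0 < c' H := fun H hH => by
    have h1 := hM H
    have h2 := he1 H hH
    have h3 : M ≤ (p : ℤ) * M * e H := by
      have hM0 : 0 ≤ M := le_trans (abs_nonneg _) h1.le
      calc M = 1 * M * 1 := by ring
        _ ≤ (p : ℤ) * M * e H := by gcongr
    have h4 := neg_abs_le (c H)
    show 0 < c H + (p : ℤ) * M * e H
    omega
  have hzero : ∀ H, ¬ IsGraph F H → c' H = 0 := fun H hH => by
    have h1 : c H = 0 := by by_contra h; exact hH (hsupp H h)
    have h2 : e H = 0 := by by_contra h; exact hH (hesupp H h)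
    show c H + (p : ℤ) * M * e H = 0
    rw [h1, h2, mul_zero, add_zero]
  refine ⟨c', fun H => ?_, fun H h => ?_, hpos, fun hdvd => hdeg ?_, fun H H' hH hH' hD => ?_⟩
  · by_cases hH : IsGraph F H
    · exact (hpos H hH).le
    · exact (hzero H hH).ge
  · by_contra hH
    exact h (hzero H hH)
  · have hsplit : degree c' = degree c +
        (p : ℤ) * ∑ H : Subgroup (S × S), M * e H * ((Nat.card S / Nat.card H : ℕ) : ℤ) := by
      simp only [degree, finsum_eq_sum_of_fintype, Finset.mul_sum, ← Finset.sum_add_distrib]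
      exact Finset.sum_congr rfl fun H _ => by
        show (c H + (p : ℤ) * M * e H) * _ = _
        ring
    rw [hsplit] at hdvd
    exact (dvd_add_left (dvd_mul_right _ _)).1 hdvd
  · have h1 : ∀ K, mark c' K = mark c K + (p : ℤ) * M * mark e K := fun K => by
      rw [mark_add]
      congr 1
      simp only [mark, finsum_eq_sum_of_fintype, Finset.mul_sum, mul_assoc]
    rw [h1, h1, hst H H' hH hH' hD (Nat.zero_le _), hemark, hemark]
    congr 2
    refine Finset.sum_congr rfl fun H₁ _ => hdst H₁ H H' hH hH' ?_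
    rw [← hH.card_eq, ← hH'.card_eq, hD]

/-- An invariant function of exponent dividing `p` has the same product on the fixed points. -/
theorem prod_eq_prod_fixed {p : ℕ} [Fact p.Prime] {L Y A : Type*} [Group L] [MulAction L Y]
    (hL : IsPGroup p L) [Fintype Y] [CommGroup A] (hA : ∀ a : A, a ^ p = 1) (f : Y → A)
    (hf : ∀ (l : L) (y : Y), f (l • y) = f y) [DecidablePred (· ∈ MulAction.fixedPoints L Y)] :
    ∏ y, f y = ∏ y : Y with y ∈ MulAction.fixedPoints L Y, f y := by
  classical
  rw [← Finset.prod_fiberwise_of_maps_to (g := f) (t := Finset.univ.image f)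
      fun x _ => Finset.mem_image_of_mem f (Finset.mem_univ x),
    ← Finset.prod_fiberwise_of_maps_to
      (s := Finset.univ.filter (· ∈ MulAction.fixedPoints L Y)) (g := f) (t := Finset.univ.image f)
      fun x _ => Finset.mem_image_of_mem f (Finset.mem_univ x)]
  refine Finset.prod_congr rfl fun a _ => ?_
  rw [Finset.prod_congr rfl (fun x hx => (Finset.mem_filter.1 hx).2),
    Finset.prod_congr rfl (fun x hx => (Finset.mem_filter.1 hx).2), Finset.prod_const,
    Finset.prod_const]
  let Z : SubMulAction L Y :=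
    { carrier := {y | f y = a}
      smul_mem' := fun l y hy => (hf l y).trans hy }
  have hmod := hL.card_modEq_card_fixedPoints (α := Z)
  have e1 : Nat.card Z = ((Finset.univ : Finset Y).filter (fun y => f y = a)).card := by
    rw [← Nat.card_eq_finsetCard]
    exact Nat.card_congr (Equiv.subtypeEquivRight fun y => (by simp; rfl))
  have e2 : Nat.card (MulAction.fixedPoints L Z) =
      (((Finset.univ : Finset Y).filter (· ∈ MulAction.fixedPoints L Y)).filter
        (fun y => f y = a)).card := by
    rw [← Nat.card_eq_finsetCard]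
    exact Nat.card_congr
      { toFun := fun y => ⟨y.1.1, Finset.mem_filter.2 ⟨Finset.mem_filter.2 ⟨Finset.mem_univ _,
          fun l => congrArg Subtype.val (y.2 l)⟩, y.1.2⟩⟩
        invFun := fun y => ⟨⟨y.1, (Finset.mem_filter.1 y.2).2⟩, fun l => Subtype.ext
          ((Finset.mem_filter.1 (Finset.mem_filter.1 y.2).1).2 l)⟩
        left_inv := fun y => rfl
        right_inv := fun y => rfl }
  rw [e1, e2] at hmod
  rw [← Nat.div_add_mod (Finset.card _) p]
  conv_rhs => rw [← Nat.div_add_mod (Finset.card _) p]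
  rw [pow_add, pow_add, pow_mul, pow_mul, hA, one_pow, one_mul, one_pow, one_mul]
  exact congrArg _ hmod

/-- A function whose products along all periods of a permutation are trivial has trivial product. -/
theorem prod_eq_one_of_periods {Z A : Type*} [Fintype Z] [CommGroup A] (π : Equiv.Perm Z)
    (f : Z → A)
    (h : ∀ (z : Z) (L : ℕ), (π ^ L) z = z → ∏ i ∈ Finset.range L, f ((π ^ i) z) = 1) :
    ∏ z, f z = 1 := by
  classical
  let st : Setoid Z := Equiv.Perm.SameCycle.setoid π
  let r : Z → Z := fun z => (Quotient.mk st z).out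
  have hr : ∀ z, π.SameCycle (r z) z := fun z => Quotient.exact (Quotient.out_eq (Quotient.mk st z))
  choose i hi using fun z => (hr z).exists_nat_pow_eq
  let e : Z → A := fun z => ∏ j ∈ Finset.range (i z), f ((π ^ j) (r z))
  have key : ∀ (w : Z) (a b : ℕ), a ≤ b → (π ^ a) w = (π ^ b) w →
      ∏ j ∈ Finset.range b, f ((π ^ j) w) = ∏ j ∈ Finset.range a, f ((π ^ j) w) := by
    intro w a b hab he
    obtain ⟨k, rfl⟩ := Nat.exists_eq_add_of_le hab
    rw [Finset.prod_range_add]
    have h1 : (π ^ k) ((π ^ a) w) = (π ^ a) w := by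
      rw [← Equiv.Perm.mul_apply, ← pow_add, add_comm k]
      exact he.symm
    have h2 : ∏ j ∈ Finset.range k, f ((π ^ (a + j)) w) = 1 := by
      rw [← h ((π ^ a) w) k h1]
      refine Finset.prod_congr rfl fun j _ => ?_
      rw [← Equiv.Perm.mul_apply, ← pow_add, add_comm j]
    rw [h2, mul_one]
  have hstep : ∀ z, e (π z) = e z * f z := by
    intro z
    have hrz : r (π z) = r z := congrArg Quotient.out
      (Quotient.sound (s := st) (Equiv.Perm.sameCycle_apply_left.2 (Equiv.Perm.SameCycle.refl π z)))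
    have h1 : (π ^ (i z + 1)) (r z) = (π ^ i (π z)) (r z) := by
      rw [pow_succ', Equiv.Perm.mul_apply, hi z, ← hrz, hi (π z)]
    have h2 : ∏ j ∈ Finset.range (i (π z)), f ((π ^ j) (r z)) =
        ∏ j ∈ Finset.range (i z + 1), f ((π ^ j) (r z)) := by
      rcases le_total (i z + 1) (i (π z)) with hle | hle
      · exact key _ _ _ hle h1
      · exact (key _ _ _ hle h1.symm).symm
    show ∏ j ∈ Finset.range (i (π z)), f ((π ^ j) (r (π z))) = _
    rw [hrz, h2, Finset.prod_range_succ, hi z]
  have h3 : ∏ z, e (π z) = ∏ z, e z := Equiv.prod_comp π e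
  simp only [hstep, Finset.prod_mul_distrib] at h3
  exact mul_eq_left.1 h3

end CfsgLib.Fusion
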