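import Cfsg.Agent.Fusion.PIndex.Coeff

/-!
A realization of a saturated system in a finite group on which a stable character of `S` extends,
up to a power prime to `p`, so that it is trivial on suitable centralizers.
-/

set_option autoImplicit false
set_option linter.unusedSectionVars false
set_option maxHeartbeats 1000000

open Cfsg Cfsg.FusionSystem

namespace CfsgLib.Fusion

universe u v

variable {Ω : Type u} [Group Ω] {S : Subgroup Ω} [Finite S] {F : FusionSystem S}

/-- Two homomorphisms into `S × S` differing by a map of the system in the first coordinate carry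
graphs to graphs with the same domain. -/
theorem graph_move {L : Type*} [Group L] (e e' : L →* S × S) {A : Subgroup Ω} {θ : A →* Ω}
    (hθ : θ ∈ F.Hom A) (h2 : ∀ l, (e l).2 = (e' l).2)
    (h1 : ∀ l, ∃ h : ((e l).1 : Ω) ∈ A, θ ⟨_, h⟩ = (e' l).1) {K : Subgroup L}
    (hK : IsGraph F (K.map e)) :
    IsGraph F (K.map e') ∧ graphDom (K.map e) = graphDom (K.map e') := by
  obtain ⟨T, μ, hμ, hg⟩ := hK
  have hμA : ∀ t : T, μ t ∈ A := fun t => by
    obtain ⟨k, -, hk⟩ := (hg (⟨μ t, apply_mem_S hμ t⟩, ⟨t, le_of_mem_hom hμ t.2⟩)).2 ⟨t.2, rfl⟩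
    have := (h1 k).1
    rwa [hk] at this
  have hμ' : θ.comp (μ.codRestrict A hμA) ∈ F.Hom T := F.comp_mem hμ hθ hμA
  have hg' : IsGraphOf (K.map e') T (θ.comp (μ.codRestrict A hμA)) := by
    intro w
    constructor
    · rintro ⟨k, hk, rfl⟩
      obtain ⟨hT, he⟩ := (hg (e k)).1 ⟨k, hk, rfl⟩
      refine ⟨h2 k ▸ hT, ?_⟩
      obtain ⟨hA, hθk⟩ := h1 k
      rw [← hθk]
      exact apply_congr θ ((apply_congr μ (congrArg (fun s : S => (s : Ω)) (h2 k).symm)).trans he)
    · rintro ⟨hT, he⟩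
      obtain ⟨k, hk, hke⟩ := (hg (⟨μ ⟨w.2, hT⟩, apply_mem_S hμ _⟩, w.2)).2 ⟨hT, rfl⟩
      obtain ⟨hA, hθk⟩ := h1 k
      refine ⟨k, hk, Prod.ext (Subtype.ext ?_) ((h2 k).symm.trans (congrArg Prod.snd hke :))⟩
      rw [← hθk, ← he]
      exact apply_congr θ (congrArg (fun v : S × S => (v.1 : Ω)) hke)
  exact ⟨⟨T, _, hμ', hg'⟩, by rw [hg.dom hμ, hg'.dom hμ']⟩

/-- The free `S × S`-set of a biset: a realization of the system on which a stable character of
exponent `p` extends. -/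
theorem exists_realized_character {p : ℕ} [Fact p.Prime] (hS : IsPGroup p S) (hF : F.IsSaturated p)
    {A : Type v} [CommGroup A] (hA : ∀ a : A, a ^ p = 1) (χ : S →* A)
    (hχ : ∀ (P : Subgroup Ω) (φ : P →* Ω) (hφ : φ ∈ F.Hom P) (x : P),
      χ ⟨φ x, apply_mem_S hφ x⟩ = χ ⟨x, le_of_mem_hom hφ x.2⟩) :
    ∃ (G : Type u) (_ : Group G) (ι : S →* G) (sg : G →* A) (n : ℕ), Finite G ∧ F.IsRealizedBy ι ∧
      ¬ p ∣ n ∧ (∀ s, sg (ι s) = (χ s ^ n)⁻¹) ∧
      ∀ (P : Subgroup Ω) (hP : P ≤ S),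
        (∀ Q, F.IsConj P Q → ∀ c : S, (c : Ω) ∈ centralizerIn S Q → χ c = 1) →
        ∀ g : G, (∀ x : P, g * ι ⟨x, hP x.2⟩ = ι ⟨x, hP x.2⟩ * g) → sg g = 1 := by
  classical
  have : Fintype (Subgroup (S × S)) := Fintype.ofFinite _
  obtain ⟨c, hc0, hcs, hcpos, hdeg, hst⟩ := exists_positive_biset hS hF
  obtain ⟨H₁, hH₁g⟩ := exists_isGraphOf (F.conj_mem le_rfl (one_mem S))
  have hH₁ : IsGraph F H₁ := ⟨_, _, F.conj_mem le_rfl (one_mem S), hH₁g⟩
  have hH₁' : ∀ w : S × S, w ∈ H₁ ↔ w.1 = w.2 := fun w => by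
    rw [hH₁g]
    refine ⟨fun ⟨h, e⟩ => Subtype.ext ?_, fun e => ⟨w.2.2, ?_⟩⟩
    · rw [← e]; show (1 : Ω) * w.2 * 1⁻¹ = w.2; simp
    · show (1 : Ω) * w.2 * 1⁻¹ = w.1; simp [e]
  let X : Type u := Σ H : Subgroup (S × S), Fin (c H).toNat × ((S × S) ⧸ H)
  let ρ : S × S →* Equiv.Perm X :=
    { toFun := fun w => Equiv.sigmaCongrRight fun H =>
        Equiv.prodCongr (Equiv.refl _) (MulAction.toPerm w)
      map_one' := Equiv.ext fun q => by
        obtain ⟨H, i, q⟩ := q
        exact congrArg (fun q => (⟨H, i, q⟩ : X)) (one_smul (S × S) q)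
      map_mul' := fun v w => Equiv.ext fun q => by
        obtain ⟨H, i, q⟩ := q
        exact congrArg (fun q => (⟨H, i, q⟩ : X)) (mul_smul v w q) }
  have hρ : ∀ w H i q, ρ w (⟨H, i, q⟩ : X) = ⟨H, i, w • q⟩ := fun _ _ _ _ => rfl
  have hinj : ∀ w H i q, ρ w (⟨H, i, q⟩ : X) = ⟨H, i, q⟩ ↔ w • q = q := fun w H i q => by
    rw [hρ]
    refine ⟨fun h => ?_, fun h => by rw [h]⟩
    exact congrArg Prod.snd (eq_of_heq (Sigma.mk.inj_iff.1 h).2)
  have hgraph : ∀ H, Fin (c H).toNat → IsGraph F H := fun H i => hcs H fun h => by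
    have := i.pos
    rw [h] at this
    simp at this
  -- stabilizers are graphs
  have hstab : ∀ x : X, ∃ (R : Subgroup Ω) (η : R →* Ω), η ∈ F.Hom R ∧
      ∀ w : S × S, ρ w x = x ↔ ∃ h : (w.2 : Ω) ∈ R, η ⟨w.2, h⟩ = w.1 := by
    rintro ⟨H, i, q⟩
    obtain ⟨g, rfl⟩ := QuotientGroup.mk_surjective q
    obtain ⟨R, η, hη, hgη⟩ := (hgraph H i).conj g
    refine ⟨R, η, hη, fun w => ?_⟩
    rw [hinj, smul_mk_eq_iff, ← hgη w]
    constructor
    · exact fun h => ⟨_, h, by simp [mul_assoc]⟩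
    · rintro ⟨v, hv, rfl⟩
      simpa [mul_assoc] using hv
  have hfree : ∀ (t t' : S) (x : X), ρ (1, t) x = ρ (1, t') x → t = t' := by
    intro t t' x h
    obtain ⟨R, η, hη, hR⟩ := hstab x
    have h1 : ρ (1, t'⁻¹ * t) x = x := by
      rw [show ((1, t'⁻¹ * t) : S × S) = (1, t')⁻¹ * (1, t) by simp, map_mul, map_inv,
        Equiv.Perm.mul_apply, h]
      exact Equiv.symm_apply_apply _ _
    obtain ⟨hm, he⟩ := (hR _).1 h1
    have h2 := F.injective_of_mem hη (a₁ := ⟨_, hm⟩) (a₂ := 1) (he.trans η.map_one.symm)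
    have h3 : t'⁻¹ * t = 1 := Subtype.ext (congrArg (fun z : R => (z : Ω)) h2)
    exact (inv_mul_eq_one.1 h3).symm
  obtain ⟨vfun, hv⟩ : ∃ vfun : X → A, ∀ (w : S × S) (x : X),
      vfun (ρ w x) = χ w.2 * (χ w.1)⁻¹ * vfun x := by
    refine ⟨fun x => χ x.2.2.out.2 * (χ x.2.2.out.1)⁻¹, ?_⟩
    rintro w ⟨H, i, q⟩
    show χ (w • q).out.2 * (χ (w • q).out.1)⁻¹ = _
    have hq : ((w * q.out : S × S) : (S × S) ⧸ H) = w • q := by
      conv_rhs => rw [← QuotientGroup.out_eq' q]
      rfl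
    obtain ⟨k, hk⟩ := QuotientGroup.mk_out_eq_mul H (w * q.out)
    rw [hq] at hk
    obtain ⟨R, η, hη, hgη⟩ := hgraph H i
    obtain ⟨hR, he⟩ := (hgη k).1 k.2
    have hk1 : χ (k : S × S).1 = χ (k : S × S).2 := by
      have e := hχ R η hη ⟨_, hR⟩
      rwa [show (⟨η ⟨_, hR⟩, apply_mem_S hη _⟩ : S) = (k : S × S).1 from Subtype.ext he] at e
    rw [hk]
    simp only [Prod.fst_mul, Prod.snd_mul, map_mul, hk1]
    rw [mul_inv_rev, mul_inv_rev]
    generalize χ (k : S × S).2 = a
    generalize χ q.out.1 = b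
    generalize χ q.out.2 = b'
    generalize χ w.1 = d
    generalize χ w.2 = d'
    calc d' * b' * a * (a⁻¹ * (b⁻¹ * d⁻¹)) = d' * b' * (a * a⁻¹) * (b⁻¹ * d⁻¹) := by
          simp only [mul_assoc]
      _ = d' * b' * (b⁻¹ * d⁻¹) := by rw [mul_inv_cancel, mul_one]
      _ = d' * d⁻¹ * (b' * b⁻¹) := by simp only [mul_assoc, mul_comm, mul_left_comm]
  let lft : S →* Equiv.Perm X := ρ.comp (MonoidHom.inl S S)
  let rgt : S →* Equiv.Perm X := ρ.comp (MonoidHom.inr S S)
  have hρe : ∀ a b : S, ρ (a, b) = lft a * rgt b := fun a b => by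
    show ρ (a, b) = ρ (a, 1) * ρ (1, b)
    rw [← map_mul]; simp
  let G : Subgroup (Equiv.Perm X) := Subgroup.centralizer (rgt.range : Set (Equiv.Perm X))
  have hlG : ∀ s, lft s ∈ G := fun s => Subgroup.mem_centralizer_iff.2 fun _ ⟨t, ht⟩ => by
    subst ht
    show ρ (1, t) * ρ (s, 1) = ρ (s, 1) * ρ (1, t)
    rw [← map_mul, ← map_mul]
    simp
  have hGr : ∀ (g : G) (t : S) (x : X),
      (g : Equiv.Perm X) (ρ (1, t) x) = ρ (1, t) ((g : Equiv.Perm X) x) := fun g t x =>
    (DFunLike.congr_fun (Subgroup.mem_centralizer_iff.1 g.2 _ ⟨t, rfl⟩) x).symm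
  -- the orbits of the right action
  let st : Setoid X :=
    { r := fun x y => ∃ t : S, ρ (1, t) x = y
      iseqv := ⟨fun x => ⟨1, by rw [show ((1, 1) : S × S) = 1 from rfl, map_one]; rfl⟩,
        fun {x y} ⟨t, ht⟩ => ⟨t⁻¹, by
          rw [← ht, show ((1, t⁻¹) : S × S) = (1, t)⁻¹ by simp, map_inv]
          exact Equiv.symm_apply_apply _ _⟩,
        fun {x y z} ⟨t, ht⟩ ⟨t', ht'⟩ => ⟨t' * t, by
          rw [show ((1, t' * t) : S × S) = (1, t') * (1, t) by simp, map_mul, Equiv.Perm.mul_apply,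
            ht, ht']⟩⟩ }
  let Y := Quotient st
  have : Finite Y := Finite.of_surjective _ (Quotient.mk_surjective (s := st))
  have : Fintype Y := Fintype.ofFinite Y
  have hmk : ∀ (t : S) (x : X), Quotient.mk st (ρ (1, t) x) = Quotient.mk st x := fun t x =>
    (Quotient.sound (s := st) ⟨t, rfl⟩).symm
  let actY : MulAction G Y :=
    { smul := fun g => Quotient.map (g : Equiv.Perm X) fun x y ⟨t, ht⟩ => ⟨t, by rw [← hGr, ht]⟩
      one_smul := fun y => by induction y using Quotient.inductionOn with | _ x => rfl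
      mul_smul := fun g h y => by induction y using Quotient.inductionOn with | _ x => rfl }
  have hact : ∀ (g : G) (x : X), g • Quotient.mk st x = Quotient.mk st ((g : Equiv.Perm X) x) :=
    fun _ _ => rfl
  have hcancel : ∀ a b b' : A, a * b * (a * b')⁻¹ = b * b'⁻¹ := fun a b b' => by
    rw [mul_inv, mul_mul_mul_comm, mul_inv_cancel, one_mul]
  let δ : G → Y → A := fun g => Quotient.lift (fun x => vfun ((g : Equiv.Perm X) x) * (vfun x)⁻¹)
    fun x y ⟨t, ht⟩ => by
      show vfun ((g : Equiv.Perm X) x) * (vfun x)⁻¹ = vfun ((g : Equiv.Perm X) y) * (vfun y)⁻¹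
      rw [← ht, hGr, hv, hv, map_one, inv_one, mul_one]
      exact (hcancel _ _ _).symm
  have hδ : ∀ (g : G) (x : X), δ g (Quotient.mk st x) =
      vfun ((g : Equiv.Perm X) x) * (vfun x)⁻¹ := fun _ _ => rfl
  have hδmul : ∀ (g h : G) (y : Y), δ (g * h) y = δ g (h • y) * δ h y := fun g h y => by
    induction y using Quotient.inductionOn with
    | _ x =>
      rw [hact, hδ, hδ, hδ, mul_assoc, inv_mul_cancel_left]
      rfl
  let sg : G →* A :=
    { toFun := fun g => ∏ y, δ g y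
      map_one' := Finset.prod_eq_one fun y _ => by
        induction y using Quotient.inductionOn with
        | _ x => rw [hδ]; exact mul_inv_cancel _
      map_mul' := fun g h => by
        simp only [hδmul, Finset.prod_mul_distrib]
        congr 1
        exact Equiv.prod_comp (MulAction.toPerm h) (δ g) }
  -- fixed point numbers
  have hfixcard : ∀ K : Subgroup (S × S),
      (Nat.card {x : X // ∀ k ∈ K, ρ k x = x} : ℤ) = mark c K := by
    intro K
    rw [mark, finsum_eq_sum_of_fintype]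
    have e : {x : X // ∀ k ∈ K, ρ k x = x} ≃
        Σ H : Subgroup (S × S), Fin (c H).toNat × {q : (S × S) ⧸ H // ∀ k ∈ K, k • q = q} :=
      { toFun := fun x => ⟨x.1.1, x.1.2.1, x.1.2.2, fun k hk => (hinj _ _ _ _).1 (x.2 k hk)⟩
        invFun := fun x => ⟨⟨x.1, x.2.1, x.2.2.1⟩, fun k hk => (hinj _ _ _ _).2 (x.2.2.2 k hk)⟩
        left_inv := fun x => rfl
        right_inv := fun x => rfl }
    rw [Nat.card_congr e, Nat.card_sigma, Nat.cast_sum]
    refine Finset.sum_congr rfl fun H _ => ?_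
    rw [Nat.card_prod, Nat.card_eq_fintype_card, Fintype.card_fin, Nat.cast_mul,
      Int.toNat_of_nonneg (hc0 H)]
    rfl
  -- the number of orbits
  have hY : (Nat.card Y : ℤ) = degree c := by
    have hspec : ∀ x : X, ∃ t : S, ρ (1, t) (Quotient.mk st x).out = x := fun x =>
      Quotient.exact (Quotient.out_eq (Quotient.mk st x))
    have hX1 : Nat.card X = Nat.card Y * Nat.card S := by
      rw [← Nat.card_prod]
      exact Nat.card_congr
        { toFun := fun x => (Quotient.mk st x, (hspec x).choose)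
          invFun := fun yt => ρ (1, yt.2) yt.1.out
          left_inv := fun x => (hspec x).choose_spec
          right_inv := fun yt => by
            have e1 : Quotient.mk st (ρ (1, yt.2) yt.1.out) = yt.1 :=
              (hmk _ _).trans (Quotient.out_eq yt.1)
            refine Prod.ext e1 (hfree _ _ yt.1.out ?_)
            have := (hspec (ρ (1, yt.2) yt.1.out)).choose_spec
            simp only [e1] at this ⊢
            exact this }
    have hX2 : (Nat.card X : ℤ) = (Nat.card S : ℤ) * degree c := by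
      rw [Nat.card_sigma, Nat.cast_sum, degree, finsum_eq_sum_of_fintype, Finset.mul_sum]
      refine Finset.sum_congr rfl fun H _ => ?_
      rw [Nat.card_prod, Nat.card_eq_fintype_card, Fintype.card_fin, Nat.cast_mul,
        Int.toNat_of_nonneg (hc0 H)]
      by_cases hH : c H = 0
      · rw [hH]; ring
      have hdvd : Nat.card H ∣ Nat.card S := by
        obtain ⟨R, η, hη, hg⟩ := hcs H hH
        rw [hg.card_eq hη]
        exact Subgroup.card_dvd_of_le (le_of_mem_hom hη)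
      have h1 : Nat.card ((S × S) ⧸ H) = Nat.card S * (Nat.card S / Nat.card H) := by
        refine Nat.eq_of_mul_eq_mul_right (Nat.card_pos (α := H)) ?_
        rw [← Subgroup.card_eq_card_quotient_mul_card_subgroup, Nat.card_prod, mul_assoc,
          Nat.div_mul_cancel hdvd]
      rw [h1, Nat.cast_mul]
      ring
    rw [hX1, Nat.cast_mul, mul_comm] at hX2
    exact mul_left_cancel₀ (by exact_mod_cast (Nat.card_pos (α := S)).ne') hX2
  let x₀ : X := ⟨H₁, ⟨0, by have := hcpos H₁ hH₁; omega⟩, ((1 : S × S) : (S × S) ⧸ H₁)⟩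
  have hstab₀ : ∀ w : S × S, ρ w x₀ = x₀ ↔ w.1 = w.2 := fun w => by
    rw [hinj, smul_mk_eq_iff, inv_one, one_mul, mul_one, hH₁']
  let ι : S →* G := lft.codRestrict G hlG
  refine ⟨G, inferInstance, ι, sg, Nat.card Y, inferInstance, ⟨fun s t h => ?_, fun P hP φ hφ =>
    ⟨fun hFφ => ?_, fun ⟨g, hg⟩ => ?_⟩⟩, fun hd => hdeg ?_, fun s => ?_, fun P hP hcent g hg => ?_⟩
  · have h1 : ρ (s, 1) = ρ (t, 1) := congrArg Subtype.val h
    have h2 : ρ (t⁻¹ * s, 1) x₀ = x₀ := by
      rw [show ((t⁻¹ * s, 1) : S × S) = (t, 1)⁻¹ * (s, 1) by simp, map_mul, map_inv, h1,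
        inv_mul_cancel, Equiv.Perm.one_apply]
    exact (inv_mul_eq_one.1 ((hstab₀ _).1 h2)).symm
  · let e1 : P × S →* S × S := (Subgroup.inclusion hP).prodMap (MonoidHom.id S)
    let e2 : P × S →* S × S := (φ.codRestrict S hφ).prodMap (MonoidHom.id S)
    obtain ⟨ψ, hψ, hψ1⟩ := F.inv_mem hFφ
    have : Finite P := Finite.of_injective _ (Subgroup.inclusion_injective hP)
    have hfix : ∀ K : Subgroup (P × S), Nat.card {x : X // ∀ k ∈ K, (ρ.comp e1) k x = x} =
        Nat.card {x : X // ∀ k ∈ K, (ρ.comp e2) k x = x} := by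
      intro K
      have conv : ∀ e : P × S →* S × S, (Nat.card {x : X // ∀ k ∈ K, (ρ.comp e) k x = x} : ℤ) =
          mark c (K.map e) := fun e => by
        rw [← hfixcard]
        refine congrArg Nat.cast (Nat.card_congr (Equiv.subtypeEquivRight fun x => ?_))
        exact ⟨fun h _ ⟨k, hk, hke⟩ => hke ▸ h k hk, fun h k hk => h _ ⟨k, hk, rfl⟩⟩
      refine Nat.cast_injective (R := ℤ) ((conv e1).trans (Eq.trans ?_ (conv e2).symm))
      by_cases h1 : IsGraph F (K.map e1)
      · have m1 := graph_move e1 e2 hFφ (fun _ => rfl) (fun l => ⟨l.1.2, rfl⟩) h1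
        exact hst _ _ h1 m1.1 m1.2
      · rw [mark_eq_zero_of_not_graph hcs h1, mark_eq_zero_of_not_graph hcs fun h => h1
          (graph_move e2 e1 hψ (fun _ => rfl) (fun l => ⟨⟨l.1, rfl⟩, hψ1 l.1⟩) h).1]
    obtain ⟨f, hf⟩ := CfsgLib.Park.exists_equiv_equivariant (ρ.comp e1) (ρ.comp e2) hfix
    have hfG : (f : Equiv.Perm X) ∈ G := Subgroup.mem_centralizer_iff.2 fun _ ⟨t, ht⟩ => by
      subst ht
      refine Equiv.ext fun x => ?_
      show ρ (1, t) (f x) = f (ρ (1, t) x)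
      have h : f (ρ (e1 (1, t)) x) = ρ (e2 (1, t)) (f x) := hf (1, t) x
      rw [show e1 (1, t) = (1, t) from Prod.ext ((Subgroup.inclusion hP).map_one) rfl,
        show e2 (1, t) = (1, t) from Prod.ext ((φ.codRestrict S hφ).map_one) rfl] at h
      exact h.symm
    refine ⟨⟨f, hfG⟩, fun x => Subtype.ext (eq_mul_inv_iff_mul_eq.2 (Equiv.ext fun z => ?_))⟩
    exact (hf (x, 1) z).symm
  · obtain ⟨R, η, hη, hR⟩ := hstab ((g : Equiv.Perm X) x₀)
    have hmem : ∀ r : P, ∃ h : (r : Ω) ∈ R, η ⟨r, h⟩ = φ r := fun r => by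
      refine (hR (⟨φ r, hφ r⟩, ⟨r, hP r.2⟩)).1 ?_
      have h1 : (lft ⟨φ r, hφ r⟩) * (g : Equiv.Perm X) = (g : Equiv.Perm X) * lft ⟨r, hP r.2⟩ :=
        eq_mul_inv_iff_mul_eq.1 (congrArg Subtype.val (hg r))
      rw [hρe, Equiv.Perm.mul_apply]
      show lft _ (ρ (1, _) ((g : Equiv.Perm X) x₀)) = _
      rw [← hGr, ← Equiv.Perm.mul_apply, h1, Equiv.Perm.mul_apply]
      show (g : Equiv.Perm X) (ρ (_, 1) (ρ (1, _) x₀)) = _
      rw [← Equiv.Perm.mul_apply (ρ _), ← map_mul, Prod.mk_mul_mk, mul_one, one_mul,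
        (hstab₀ _).2 rfl]
    refine restrict_mem_of_eq hη (fun r hr => (hmem ⟨r, hr⟩).1) fun r => ?_
    exact (hmem r).2.symm
  · rw [← hY]
    exact Int.natCast_dvd_natCast.2 hd
  · show ∏ y, δ (ι s) y = _
    rw [Finset.prod_congr rfl (fun y _ => (?_ : δ (ι s) y = (χ s)⁻¹)), Finset.prod_const,
      Finset.card_univ, inv_pow, Nat.card_eq_fintype_card]
    induction y using Quotient.inductionOn with
    | _ x =>
      rw [hδ]
      show vfun (ρ (s, 1) x) * (vfun x)⁻¹ = _
      rw [hv]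
      simp [mul_assoc]
  · -- centralizing elements
    have : Finite P := Finite.of_injective _ (Subgroup.inclusion_injective hP)
    let ιP : P →* G := ι.comp (Subgroup.inclusion hP)
    letI : MulAction P Y := MulAction.compHom Y ιP
    have hPact : ∀ (r : P) (y : Y), r • y = ιP r • y := fun _ _ => rfl
    have hcomm : ∀ r : P, g * ιP r = ιP r * g := hg
    have hinv : ∀ (r : P) (y : Y), δ g (r • y) = δ g y := fun r y => by
      induction y using Quotient.inductionOn with
      | _ x =>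
        rw [hPact, hact, hδ, hδ]
        have h1 : (g : Equiv.Perm X) ((ιP r : Equiv.Perm X) x) =
            (ιP r : Equiv.Perm X) ((g : Equiv.Perm X) x) :=
          DFunLike.congr_fun (congrArg Subtype.val (hcomm r)) x
        rw [h1]
        show vfun (ρ (⟨r, hP r.2⟩, 1) _) * (vfun (ρ (⟨r, hP r.2⟩, 1) x))⁻¹ = _
        rw [hv, hv]
        exact hcancel _ _ _
    show ∏ y, δ g y = 1
    rw [prod_eq_prod_fixed (L := P) (p := p) (isPGroup_of_le hS hP) hA (δ g) hinv]
    have hgfix : ∀ y, y ∈ MulAction.fixedPoints P Y ↔ g • y ∈ MulAction.fixedPoints P Y := fun y => by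
      simp only [MulAction.mem_fixedPoints, hPact]
      refine forall_congr' fun r => ?_
      rw [smul_smul, ← hcomm, ← smul_smul]
      exact (MulAction.injective g).eq_iff.symm
    rw [Finset.prod_subtype (p := fun y => y ∈ MulAction.fixedPoints P Y) _ (fun y => by simp) (δ g)]
    let π : Equiv.Perm {y : Y // y ∈ MulAction.fixedPoints P Y} :=
      (MulAction.toPerm g).subtypePerm fun y => (hgfix y).symm
    have hπ : ∀ (i : ℕ) (y), ((π ^ i) y).1 = g ^ i • y.1 := fun i => by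
      induction i with
      | zero => intro y; simp
      | succ i ih =>
        intro y
        rw [pow_succ', Equiv.Perm.mul_apply, pow_succ', mul_smul]
        show g • ((π ^ i) y).1 = _
        rw [ih]
    refine prod_eq_one_of_periods π _ fun y L hL => ?_
    have hprod : ∀ L, ∏ i ∈ Finset.range L, δ g ((π ^ i) y).1 = δ (g ^ L) y.1 := fun L => by
      induction L with
      | zero =>
        rw [Finset.range_zero, Finset.prod_empty, pow_zero]
        obtain ⟨y, -⟩ := y
        induction y using Quotient.inductionOn with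
        | _ x => rw [hδ]; exact (mul_inv_cancel _).symm
      | succ L ih => rw [Finset.prod_range_succ, ih, hπ, pow_succ', hδmul, mul_comm]
    rw [hprod]
    have hfixL : g ^ L • y.1 = y.1 := by rw [← hπ, hL]
    obtain ⟨y, hy⟩ := y
    induction y using Quotient.inductionOn with
    | _ x =>
      obtain ⟨t, ht⟩ := Quotient.exact ((hact _ _).symm.trans hfixL).symm
      rw [hδ, ← ht, hv, map_one, inv_one, mul_one, mul_inv_cancel_right]
      obtain ⟨R, η, hη, hR⟩ := hstab x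
      -- each element of `P` is the image under `η` of an element of `R`
      have hb : ∀ r : P, ∃ (b : S) (h : (b : Ω) ∈ R), η ⟨b, h⟩ = r ∧
          ρ (⟨r, hP r.2⟩, b) x = x := fun r => by
        obtain ⟨b, hb⟩ := Quotient.exact ((hact (ιP r) x).symm.trans (hy r))
        have h1 : ρ (⟨r, hP r.2⟩, b) x = x := by
          rw [show ((⟨r, hP r.2⟩, b) : S × S) = (1, b) * (⟨r, hP r.2⟩, 1) by simp, map_mul,
            Equiv.Perm.mul_apply]
          exact hb
        obtain ⟨h2, h3⟩ := (hR _).1 h1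
        exact ⟨b, h2, h3, h1⟩
      choose b hbR hbe hbx using hb
      have hPη : ∀ r : P, ∃ z : R, η z = r := fun r => ⟨_, hbe r⟩
      obtain ⟨ψ, hψ, hψ1⟩ := F.inv_mem hη
      have hPr : P ≤ η.range := fun r hr => hPη ⟨r, hr⟩
      refine hcent _ ⟨_, restrict_mem hψ hPr, rfl⟩ t (mem_centralizerIn.2 ⟨t.2, ?_⟩)
      rintro z ⟨r, rfl⟩
      have hzb : (ψ.comp (Subgroup.inclusion hPr)) r = (b r : Ω) := by
        refine (apply_congr ψ (hbe r).symm).trans (hψ1 ⟨_, hbR r⟩)
      rw [hzb]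
      have hgL : ∀ k : ℕ, g ^ k * ιP r = ιP r * g ^ k := fun k => (Commute.pow_left (hcomm r) k).eq
      have h4 : ρ (⟨r, hP r.2⟩, t⁻¹ * b r * t) x = x := by
        rw [show ((⟨r, hP r.2⟩, t⁻¹ * b r * t) : S × S) =
          (1, t)⁻¹ * ((⟨r, hP r.2⟩, b r) * (1, t)) by simp [mul_assoc], map_mul, map_mul, map_inv,
          Equiv.Perm.mul_apply, Equiv.Perm.mul_apply, ht]
        have h5 : ρ (⟨r, hP r.2⟩, b r) (((g ^ L : G) : Equiv.Perm X) x) =
            ((g ^ L : G) : Equiv.Perm X) x := by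
          rw [hρe, Equiv.Perm.mul_apply]
          show ρ (_, 1) (ρ (1, _) _) = _
          rw [← hGr]
          have h6 : (ιP r : Equiv.Perm X) (((g ^ L : G) : Equiv.Perm X) (ρ (1, b r) x)) =
              ((g ^ L : G) : Equiv.Perm X) ((ιP r : Equiv.Perm X) (ρ (1, b r) x)) :=
            (DFunLike.congr_fun (congrArg Subtype.val (hgL L)) _).symm
          refine h6.trans (congrArg _ ?_)
          show ρ (⟨r, hP r.2⟩, 1) (ρ (1, b r) x) = x
          rw [← Equiv.Perm.mul_apply, ← map_mul, Prod.mk_mul_mk, mul_one, one_mul]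
          exact hbx r
        rw [h5, ← ht]
        exact Equiv.symm_apply_apply _ _
      obtain ⟨h7, h8⟩ := (hR _).1 h4
      have h9 := congrArg Subtype.val
        (F.injective_of_mem hη (a₁ := ⟨_, h7⟩) (a₂ := ⟨_, hbR r⟩) (h8.trans (hbe r).symm))
      change (t : Ω)⁻¹ * (b r : Ω) * t = b r at h9
      calc (b r : Ω) * t = (t : Ω) * ((t : Ω)⁻¹ * (b r : Ω) * t) := by group
        _ = (t : Ω) * b r := by rw [h9]

end CfsgLib.Fusion
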