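import Cfsg.Agent.Fusion.PIndex.Realize
import Cfsg.Agent.Fusion.Tate
import Cfsg.Agent.Fusion.HGen.Stab

/-!
A saturated subsystem of index `p` over a maximal subgroup containing the hyperfocal subgroup.
-/

set_option autoImplicit false
set_option linter.unusedSectionVars false
set_option linter.style.haveILetI false

open Cfsg Cfsg.FusionSystem

namespace CfsgLib.Fusion

universe u

/-- A character with kernel a given normal subgroup of index `p`. -/
theorem exists_character {H : Type*} [Group H] (N : Subgroup H) [N.Normal] (p : ℕ)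
    [Fact p.Prime] (hN : N.index = p) :
    ∃ χ : H →* Multiplicative (ZMod p), ∀ x, χ x = 1 ↔ x ∈ N := by
  have hc : Nat.card (H ⧸ N) = p := hN
  let e : Multiplicative (ZMod (Nat.card (H ⧸ N))) ≃* H ⧸ N :=
    zmodCyclicMulEquiv (isCyclic_of_prime_card hc)
  refine ⟨((AddEquiv.toMultiplicative (ZMod.ringEquivCongr hc).toAddEquiv).toMonoidHom.comp
    e.symm.toMonoidHom).comp (QuotientGroup.mk' N), fun x => ?_⟩
  simp [QuotientGroup.eq_one_iff]

variable {Ω : Type u} [Group Ω] {S : Subgroup Ω} [Finite S] {F : FusionSystem S}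

/-- Conjugating a fully normalized subgroup by an element of `S` keeps it fully normalized. -/
theorem fullyNormalized_conj {Q Q' : Subgroup Ω} (hQ : F.IsFullyNormalized Q) {s : Ω} (hs : s ∈ S)
    (hQ' : ∀ y, y ∈ Q' ↔ ∃ x ∈ Q, s * x * s⁻¹ = y) : F.IsConj Q Q' ∧ F.IsFullyNormalized Q' := by
  have hφ : conjHom S s ∈ F.Hom S := F.conj_mem le_rfl hs
  have hmap : (Q.subgroupOf S).map (conjHom S s) = Q' := by
    ext y
    rw [hQ' y]
    constructor
    · rintro ⟨x, hx, rfl⟩; exact ⟨x, hx, rfl⟩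
    · rintro ⟨x, hx, rfl⟩; exact ⟨⟨x, hQ.1 hx⟩, hx, rfl⟩
  have hc : F.IsConj Q Q' := hmap ▸ isConj_map hφ hQ.1
  refine ⟨hc, IsConj.le_right hc, fun R hR => (hQ.2 R (isConj_trans hc hR)).trans ?_⟩
  refine (card_le_card_map (normalizerIn_le_S Q') (F.injective_of_mem hφ) (normalizerIn_le_S Q)
    fun g hg => ?_).1
  have := map_mem_normalizerIn hφ hQ.1 hg (normalizerIn_le_S Q hg)
  rwa [hmap] at this

/-- The subsystem of index `p` over a normal subgroup `T` of index `p` containing `hyp(F)`. -/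
theorem exists_index_p_subsystem (p : ℕ) [Fact p.Prime] (hS : IsPGroup p S) (hF : F.IsSaturated p)
    {T : Subgroup Ω} (hTS : T ≤ S) (hTn : (T.subgroupOf S).Normal)
    (hidx : (T.subgroupOf S).index = p) (hT : F.hyperfocalSubgroup p ≤ T) :
    ∃ E : FusionSystem T, E.IsSaturated p ∧ E.HasPPowerIndexIn F p := by
  classical
  obtain ⟨χ, hχ⟩ := exists_character (T.subgroupOf S) p hidx
  have hA : ∀ a : Multiplicative (ZMod p), a ^ p = 1 := fun a => by
    refine Multiplicative.toAdd.injective ?_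
    rw [toAdd_pow, toAdd_one, nsmul_eq_mul, ZMod.natCast_self, zero_mul]
  have hTn' : S ≤ Subgroup.normalizer (T : Set Ω) := fun g hg =>
    mem_normalizer_of_conj_mem hTS fun x hx => Subgroup.mem_subgroupOf.1
      (hTn.conj_mem ⟨x, hTS hx⟩ hx ⟨g, hg⟩)
  have hTmem : ∀ {x : Ω} (hx : x ∈ S), χ ⟨x, hx⟩ = 1 ↔ x ∈ T := fun hx => hχ ⟨_, hx⟩
  have hstable : ∀ (P : Subgroup Ω) (φ : P →* Ω) (hφ : φ ∈ F.Hom P) (x : P),
      χ ⟨φ x, apply_mem_S hφ x⟩ = χ ⟨x, le_of_mem_hom hφ x.2⟩ := by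
    intro P φ hφ x
    obtain ⟨s, hs, hsx⟩ := exists_inner_mod p hS hF hTn' hT hφ
    let a : S := ⟨s, hs⟩
    let b : S := ⟨x, le_of_mem_hom hφ x.2⟩
    have h1 : χ ((a * b * a⁻¹)⁻¹ * ⟨φ x, apply_mem_S hφ x⟩) = 1 :=
      (hχ _).2 (Subgroup.mem_subgroupOf.2 (hsx x))
    rw [map_mul, map_inv, inv_mul_eq_one, map_mul, map_mul, map_inv, mul_comm (χ a),
      mul_inv_cancel_right] at h1
    exact h1.symm
  obtain ⟨G, hG, ι, sg, n, hGfin, hreal, hn, hsg, hcent⟩ :=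
    exists_realized_character hS hF hA χ hstable
  have hsg1 : ∀ {x : Ω} (hx : x ∈ S), sg (ι ⟨x, hx⟩) = 1 ↔ x ∈ T := fun {x} hx => by
    rw [hsg, inv_eq_one, ← hTmem hx]
    refine ⟨fun h => ?_, fun h => by rw [h, one_pow]⟩
    have h1 := orderOf_dvd_of_pow_eq_one h
    rcases (Nat.dvd_prime Fact.out).1 (orderOf_dvd_of_pow_eq_one (hA (χ ⟨x, hx⟩))) with h2 | h2
    · exact orderOf_eq_one_iff.1 h2
    · exact absurd (h2 ▸ h1) hn
  have hgen : ∀ {x : Ω} (hx : x ∈ S), x ∉ T → ∀ a, ∃ k : ℕ, sg (ι (⟨x, hx⟩ ^ k)) = a := by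
    intro x hx hxT a
    have hc : Nat.card (Multiplicative (ZMod p)) = p := Nat.card_zmod p
    obtain ⟨k, hk⟩ := mem_powers_of_prime_card (g' := a) hc fun h => hxT ((hsg1 hx).1 h)
    exact ⟨k, by rw [map_pow, map_pow]; exact hk⟩
  have hrange : ∀ {P : Subgroup Ω} {φ : P →* Ω}, φ ∈ F.Hom P → P ≤ T → ∀ x : P, φ x ∈ T :=
    fun {P φ} hφ hPT x => by
      rw [← hTmem (apply_mem_S hφ x), hstable P φ hφ x, hTmem]
      exact hPT x.2
  -- the adjusting element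
  have hadj : ∀ {Q : Subgroup Ω}, F.IsReceptive Q → Q ≤ T → ∀ g : G,
      (∀ (x : Ω) (hx : x ∈ S), x ∈ Q → g * ι ⟨x, hx⟩ = ι ⟨x, hx⟩ * g) →
      ∃ z : S, (z : Ω) ∈ centralizerIn S Q ∧ sg (ι z) = sg g := by
    intro Q hQ hQT g hg
    by_cases hC : centralizerIn S Q ≤ T
    · refine ⟨1, one_mem _, ?_⟩
      rw [map_one, map_one]
      refine (hcent Q hQ.1 (fun Q' hQ' c hc => ?_) g fun x => hg x (hQ.1 x.2) x.2).symm
      obtain ⟨θ, hθ, hr⟩ := isConj_symm hQ'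
      have hN : Q' ⊔ centralizerIn S Q' ≤ extender S Q' θ :=
        sup_le (le_extender hθ) (centralizerIn_le_extender Q' θ)
      obtain ⟨ψ, hψ, h⟩ := receptive_extend hQ hθ hr hN
      have hcN : (c : Ω) ∈ Q' ⊔ centralizerIn S Q' := Subgroup.mem_sup_right hc
      have h1 := map_mem_centralizerIn hψ (P := Q') le_sup_left hc hcN
      rw [map_eq_range_of_eq le_sup_left h, hr] at h1
      have h2 := hstable _ ψ hψ ⟨c, hcN⟩
      rw [(hTmem _).2 (hC h1)] at h2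
      exact h2.symm
    · obtain ⟨x, hx, hxT⟩ := SetLike.not_le_iff_exists.1 hC
      obtain ⟨k, hk⟩ := hgen hx.1 hxT (sg g)
      exact ⟨⟨x, hx.1⟩ ^ k, pow_mem hx k, hk⟩
  -- the subsystem
  let E : FusionSystem T :=
    { Hom := fun P => {φ | ∃ (hP : P ≤ T) (hφ : ∀ x : P, φ x ∈ T), ∃ g : G, sg g = 1 ∧
        ∀ x : P, ι ⟨φ x, hTS (hφ x)⟩ = g * ι ⟨x, hTS (hP x.2)⟩ * g⁻¹}
      le_of_mem := fun h => ⟨h.1, h.2.1⟩
      injective_of_mem := fun {P φ} ⟨hP, hφ, g, _, hg⟩ a b h => by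
        have h1 := hg a
        rw [show (⟨φ a, hTS (hφ a)⟩ : S) = ⟨φ b, hTS (hφ b)⟩ from Subtype.ext h, hg b] at h1
        exact Subtype.ext (congrArg (fun z : S => (z : Ω))
          (hreal.1 (mul_left_cancel (mul_right_cancel h1.symm))))
      conj_mem := fun {P t} hP ht => by
        refine ⟨hP, fun x => mul_mem (mul_mem ht (hP x.2)) (inv_mem ht), ι ⟨t, hTS ht⟩,
          (hsg1 _).2 ht, fun x => ?_⟩
        rw [← map_inv, ← map_mul, ← map_mul]
        rfl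
      comp_mem := fun {P Q φ ψ} hφ' hψ' h => by
        obtain ⟨hP, hφ, g, hg1, hg⟩ := hφ'
        obtain ⟨hQ, hψ, g', hg'1, hg'⟩ := hψ'
        refine ⟨hP, fun x => hψ _, g' * g, by rw [map_mul, hg1, hg'1, mul_one], fun x => ?_⟩
        show ι ⟨ψ ⟨φ x, h x⟩, _⟩ = _
        rw [hg' ⟨φ x, h x⟩, hg x]
        group
      inv_mem := fun {P φ} hφ' => by
        obtain ⟨hP, hφ, g, hg1, hg⟩ := hφ'
        have hF' : φ ∈ F.Hom P :=
          (hreal.2 P (hP.trans hTS) φ fun x => hTS (hφ x)).2 ⟨g, hg⟩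
        obtain ⟨ψ, hψ, hψ1⟩ := F.inv_mem hF'
        refine ⟨ψ, ⟨fun y ⟨x, hx⟩ => hx ▸ hφ x, fun y => ?_, g⁻¹,
          by rw [map_inv, hg1, inv_one], fun y => ?_⟩, hψ1⟩
        · obtain ⟨_, x, rfl⟩ := y
          rw [hψ1]
          exact hP x.2
        · obtain ⟨_, x, rfl⟩ := y
          simp only [hψ1, hg x]
          group }
  have hEF : E.IsSubsystemOf F := fun P φ ⟨hP, hφ, g, _, hg⟩ =>
    (hreal.2 P (hP.trans hTS) φ fun x => hTS (hφ x)).2 ⟨g, hg⟩
  have hlift : ∀ {P : Subgroup Ω} {φ : P →* Ω} (hφ : φ ∈ F.Hom P), ∃ g : G, ∀ x : P,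
      ι ⟨φ x, apply_mem_S hφ x⟩ = g * ι ⟨x, le_of_mem_hom hφ x.2⟩ * g⁻¹ := fun {P φ} hφ =>
    (hreal.2 P (le_of_mem_hom hφ) φ (apply_mem_S hφ)).1 hφ
  refine ⟨E, fun P hP => ?_, hEF, hT, fun P hP => ?_⟩
  · -- saturation
    obtain ⟨Q₀, hPQ, hQ₀⟩ := exists_fullyNormalized F (hP.trans hTS)
    obtain ⟨φ, hφ, hr⟩ := hPQ
    obtain ⟨g, hg⟩ := hlift hφ
    obtain ⟨x₀, hx₀, hx₀T⟩ : ∃ x ∈ S, x ∉ T := by
      by_contra h
      push_neg at h
      rw [Subgroup.subgroupOf_eq_top.2 h, Subgroup.index_top] at hidx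
      exact (Fact.out : p.Prime).one_lt.ne hidx
    obtain ⟨k, hk⟩ := hgen hx₀ hx₀T (sg g)
    let s : S := (⟨x₀, hx₀⟩ : S) ^ k
    have hgs : sg ((ι s)⁻¹ * g) = 1 := by rw [map_mul, map_inv, hk, inv_mul_cancel]
    let φ' : P →* Ω := (conjHom S ((s : Ω)⁻¹)).comp (φ.codRestrict S (apply_mem_S hφ))
    have hφ' : φ' ∈ F.Hom P := F.comp_mem hφ (F.conj_mem le_rfl (inv_mem s.2)) _
    have hφ'T := hrange hφ' hP
    have hφ'E : φ' ∈ E.Hom P := by
      refine ⟨hP, hφ'T, (ι s)⁻¹ * g, hgs, fun x => ?_⟩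
      rw [show (⟨φ' x, hTS (hφ'T x)⟩ : S) = s⁻¹ * ⟨φ x, apply_mem_S hφ x⟩ * s from
        Subtype.ext (by
          show (s : Ω)⁻¹ * φ x * ((s : Ω)⁻¹)⁻¹ = (s : Ω)⁻¹ * φ x * s
          rw [inv_inv]), map_mul, map_mul, map_inv, hg x]
      group
    obtain ⟨-, hQfn⟩ := fullyNormalized_conj (Q' := φ'.range) hQ₀ (inv_mem s.2) fun y => by
      constructor
      · rintro ⟨x, rfl⟩; exact ⟨φ x, hr.le ⟨x, rfl⟩, rfl⟩
      · rintro ⟨z, hz, rfl⟩
        obtain ⟨x, rfl⟩ := hr.ge hz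
        exact ⟨x, rfl⟩
    have hQT : φ'.range ≤ T := by rintro _ ⟨x, rfl⟩; exact hφ'T x
    refine ⟨φ'.range, ⟨φ', hφ'E, rfl⟩, ?_⟩
    generalize φ'.range = Q at hQfn hQT
    obtain ⟨⟨hQS, RQ, hRQ⟩, hQr⟩ := good_of_fullyNormalized p hS hF hQfn
    haveI : Finite Q := finite_of_le hQS
    haveI : Finite (MulAut Q) := finite_mulAut
    refine ⟨⟨hQT, ?_⟩, hQT, fun R φ hφE hφr => ?_⟩
    · let K : Subgroup (F.autGroup Q) := (E.autGroup Q).subgroupOf (F.autGroup Q)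
      haveI : K.Normal := ⟨fun b hb a => by
        obtain ⟨hb1, hb2, h, hh1, hh⟩ := (autGroup_carrier hQT).1 hb
        have ha' := (autGroup_carrier hQS).1 a.2
        obtain ⟨c, hc⟩ := hlift ha'
        refine (autGroup_carrier hQT).2 ⟨hQT, fun x => hQT (SetLike.coe_mem _), c * h * c⁻¹, ?_,
          fun x => ?_⟩
        · rw [map_mul, map_mul, map_inv, hh1, mul_one, mul_inv_cancel]
        · obtain ⟨y, rfl⟩ := (a : MulAut Q).surjective x
          show ι ⟨(((a : MulAut Q) ((b : MulAut Q) ((a : MulAut Q)⁻¹ ((a : MulAut Q) y))) : Q) : Ω), _⟩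
            = c * h * c⁻¹ * ι ⟨(((a : MulAut Q) y : Q) : Ω), _⟩ * (c * h * c⁻¹)⁻¹
          have e1 := hc y
          have e2 := hc ((b : MulAut Q) y)
          have e3 := hh y
          simp only [MulAut.inv_apply_self]
          change ι ⟨(((a : MulAut Q) y : Q) : Ω), _⟩ = c * _ * c⁻¹ at e1
          change ι ⟨(((a : MulAut Q) ((b : MulAut Q) y) : Q) : Ω), _⟩ = c * _ * c⁻¹ at e2
          change ι ⟨(((b : MulAut Q) y : Q) : Ω), _⟩ = h * _ * h⁻¹ at e3
          rw [e2, e1, e3]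
          group⟩
      obtain ⟨TK, hTK⟩ := exists_sylow_normal RQ K
      have hle : autInducedBy T Q ≤ E.autGroup Q := autInducedBy_le_autGroup hQT
      have hKeq : ((TK : Subgroup K).map K.subtype).map (F.autGroup Q).subtype =
          autInducedBy T Q := by
        rw [hTK, hRQ]
        refine le_antisymm ?_ fun α hα => ?_
        · rintro _ ⟨α, ⟨hαS, hαE⟩, rfl⟩
          obtain ⟨w, hw, hwe⟩ := mem_autInducedBy.1 (Subgroup.mem_subgroupOf.1 hαS)
          obtain ⟨_, hαT, h, hh1, hh⟩ := (autGroup_carrier hQT).1 (Subgroup.mem_subgroupOf.1 hαE)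
          obtain ⟨z, hz, hze⟩ := hadj hQr hQT ((ι ⟨w, hw⟩)⁻¹ * h) fun x hx hxQ => by
            have e1 := hh ⟨x, hxQ⟩
            rw [show (⟨((Q.subtype.comp ((α : MulAut Q)).toMonoidHom) ⟨x, hxQ⟩), hTS (hαT _)⟩ : S) =
              ⟨w, hw⟩ * ⟨x, hx⟩ * ⟨w, hw⟩⁻¹ from Subtype.ext (hwe ⟨x, hxQ⟩), map_mul, map_mul,
              map_inv, eq_mul_inv_iff_mul_eq] at e1
            rw [mul_assoc, ← e1]
            group
          refine mem_autInducedBy.2 ⟨w * z, ?_, fun x => ?_⟩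
          · refine (hsg1 (mul_mem hw z.2)).1 ?_
            rw [show (⟨w * (z : Ω), mul_mem hw z.2⟩ : S) = ⟨w, hw⟩ * z from rfl, map_mul, map_mul,
              hze, map_mul, map_inv, hh1, mul_one, mul_inv_cancel]
          · refine (hwe x).trans ?_
            rw [mul_inv_rev, ← mul_assoc, mul_assoc w (z : Ω) (x : Ω), mul_assoc w _ (z : Ω)⁻¹,
              conj_eq_of_mem_centralizerIn hz x.2]
        · exact ⟨⟨α, autInducedBy_le_autGroup hQS (autInducedBy_mono hTS Q hα)⟩,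
            ⟨autInducedBy_mono hTS Q hα, hle hα⟩, rfl⟩
      haveI : Finite T := finite_of_le hTS
      refine sylow_of_card_eq TK (((isPGroup_autInducedBy hS Q).to_le
        (autInducedBy_mono hTS Q)).comap_of_injective _ Subtype.val_injective)
        (Nat.card_congr (Subgroup.subgroupOfEquivOfLe (autGroup_mono' hEF Q)).toEquiv).symm ?_
      rw [Nat.card_congr (Subgroup.subgroupOfEquivOfLe hle).toEquiv, ← hKeq,
        ← Nat.card_congr (((TK : Subgroup K).map K.subtype).equivMapOfInjective _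
          (F.autGroup Q).subtype_injective).toEquiv,
        ← Nat.card_congr ((TK : Subgroup K).equivMapOfInjective _ K.subtype_injective).toEquiv]
    · -- receptivity
      obtain ⟨hRT, hφT, g₀, hg₀1, hg₀⟩ := id hφE
      have hN : extender T R φ ≤ extender S R φ := fun v hv => by
        obtain ⟨hvT, hvN, w, hw, he⟩ := mem_extender.1 hv
        exact mem_extender.2 ⟨hTS hvT, hvN, w, hTS hw, he⟩
      obtain ⟨ψ, hψ, hψe⟩ := receptive_extend hQr (hEF R hφE) hφr hN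
      have hNT : extender T R φ ≤ T := fun v hv => (mem_extender.1 hv).1
      have hRN : R ≤ extender T R φ := le_extender hφE
      obtain ⟨g, hg⟩ := hlift hψ
      obtain ⟨z, hz, hze⟩ := hadj hQr hQT (g * g₀⁻¹) fun x hx hxQ => by
        obtain ⟨y, rfl⟩ := hφr.ge hxQ
        have e1 := hg ⟨y, hRN y.2⟩
        simp only [hψe y y.2 (hRN y.2)] at e1
        have e2 := hg₀ y
        change g * g₀⁻¹ * ι ⟨φ y, _⟩ = ι ⟨φ y, _⟩ * (g * g₀⁻¹)
        calc g * g₀⁻¹ * ι ⟨φ y, _⟩ = g * g₀⁻¹ * (g₀ * ι ⟨y, hTS (hRT y.2)⟩ * g₀⁻¹) := by rw [← e2]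
          _ = g * ι ⟨y, hTS (hRT y.2)⟩ * g⁻¹ * (g * g₀⁻¹) := by group
          _ = _ := by rw [← e1]
      let ψ' : extender T R φ →* Ω :=
        (conjHom S ((z : Ω)⁻¹)).comp (ψ.codRestrict S (apply_mem_S hψ))
      have hψ' : ψ' ∈ F.Hom (extender T R φ) :=
        F.comp_mem hψ (F.conj_mem le_rfl (inv_mem z.2)) _
      refine ⟨ψ', ⟨hNT, hrange hψ' hNT, (ι z)⁻¹ * g, ?_, fun x => ?_⟩, fun x hx hxN => ?_⟩
      · rw [map_mul, map_inv, hze, map_mul, map_inv, hg₀1, inv_one, mul_one, inv_mul_cancel]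
      · rw [show (⟨ψ' x, hTS (hrange hψ' hNT x)⟩ : S) = z⁻¹ * ⟨ψ x, apply_mem_S hψ x⟩ * z from
          Subtype.ext (by
            show (z : Ω)⁻¹ * ψ x * ((z : Ω)⁻¹)⁻¹ = (z : Ω)⁻¹ * ψ x * z
            rw [inv_inv]), map_mul, map_mul, map_inv, hg x]
        group
      · show (z : Ω)⁻¹ * ψ ⟨x, hxN⟩ * ((z : Ω)⁻¹)⁻¹ = _
        rw [hψe x hx hxN]
        exact conj_eq_of_mem_centralizerIn (inv_mem hz) (hφr.le ⟨_, rfl⟩)
  · -- index a power of `p`
    haveI : Finite P := finite_of_le (hP.trans hTS)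
    haveI : Finite (MulAut P) := finite_mulAut
    rw [Cfsg.pResidual, MonoidHom.map_closure, Subgroup.closure_le]
    rintro _ ⟨α, hα, rfl⟩
    have hφ := (autGroup_carrier (hP.trans hTS)).1 α.2
    obtain ⟨g, hg⟩ := hlift hφ
    obtain ⟨k, hk1, hk0⟩ := Nat.chineseRemainder hα 1 0
    obtain ⟨j, rfl⟩ := Nat.modEq_zero_iff_dvd.1 hk0
    have hαk : ((α : MulAut P)) ^ (p * j) = α :=
      pow_eq_self_of_modEq (pow_orderOf_eq_one _) (by rwa [Subgroup.orderOf_coe])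
    have hpow : ∀ (i : ℕ) (x : P), ι ⟨((((α : MulAut P) ^ i) x : P) : Ω), hTS (hP (SetLike.coe_mem _))⟩ =
        g ^ i * ι ⟨x, hTS (hP x.2)⟩ * (g ^ i)⁻¹ := by
      intro i
      induction i with
      | zero => intro x; simp
      | succ i ih =>
        intro x
        have e1 := hg (((α : MulAut P) ^ i) x)
        change ι ⟨(((α : MulAut P) (((α : MulAut P) ^ i) x) : P) : Ω), _⟩ = g * _ * g⁻¹ at e1
        simp only [pow_succ', MulAut.mul_apply]
        rw [e1, ih x]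
        group
    refine (autGroup_carrier hP).2 ⟨hP, fun x => hP (SetLike.coe_mem _), g ^ (p * j), ?_, fun x => ?_⟩
    · rw [map_pow, pow_mul, hA, one_pow]
    · have := hpow (p * j) x
      rw [hαk] at this
      exact this

end CfsgLib.Fusion
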